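import Groth.Agent.RelVA.PnData
import Groth.Agent.PropsBasic.AmpleUnivClosed
import Groth.Agent.PropsBasic.AmpleExtend
import Groth.Agent.PicAux.TensorLift
import Groth.Agent.CohFin.Proper
import Groth.Agent.CohFin.ProjFinite
import Groth.Agent.VarietyBC.CurveGG
import Groth.Prelude.Def_SecTwist

/-!
# Normally generated ample modules are very ample
-/

universe u

open CategoryTheory CategoryTheory.Limits AlgebraicGeometry Opposite TopologicalSpace

set_option backward.isDefEq.respectTransparency.types false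

noncomputable section

namespace Groth.FibreVA.NormalGen

open Groth.PicAux Groth.PropsBasic.Ample Groth.RelVA

variable {R : Type u} [CommRing R] {X : Scheme.{u}} (f : X ⟶ Spec (CommRingCat.of R))

/-- A scalar of the base as a global function. -/
abbrev bfun (r : R) : Γ(X, ⊤) := resX X (le_refl (⊤ : X.Opens)) (Coh.toGlobal f r)

theorem res_neg' {M : X.Modules} {U V : X.Opens} (h : V ≤ U) (x : Γ(M, U)) :
    res M h (-x) = -res M h x := map_neg _ x

theorem res_sum' {M : X.Modules} {U V : X.Opens} (h : V ≤ U) {ι : Type*} (s : Finset ι)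
    (x : ι → Γ(M, U)) : res M h (∑ i ∈ s, x i) = ∑ i ∈ s, res M h (x i) := map_sum _ x s

/-- Finitely many sections span all sections of a coherent module over the base. -/
theorem exists_span_sections [IsNoetherianRing R] [IsProper f] (M : X.Modules) (hM : Coh.IsCoh M) :
    ∃ (k : ℕ) (σ : Fin k → Γ(M, ⊤)), ∀ s : Γ(M, ⊤), ∃ r : Fin k → R,
      s = ∑ i, bfun f (r i) • σ i := by
  have hfin : CohFin.HFin f M 0 := CohFin.hFin_of_proper CohFin.projFinite 0 X f M hM
  obtain ⟨k, x, hx⟩ := Module.Finite.exists_fin (R := R) (M := CohFin.HA f M 0)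
  let e : Coh.HH X M 0 ≃+ Γ(M, ⊤) :=
    Sheaf.H.equiv₀ (Coh.toAb M) (isTerminalTop : IsTerminal (⊤ : Opens X))
  have he : ∀ (a : R) (z : CohFin.HA f M 0),
      e (show Coh.HH X M 0 from a • z) = bfun f a • e (show Coh.HH X M 0 from z) := fun a z =>
    (Sheaf.H.equiv₀_naturality (hT := (isTerminalTop : IsTerminal (⊤ : Opens X)))
      (f := Coh.smulAb M (Coh.toGlobal f a)) z).symm
  refine ⟨k, fun i => e (x i), fun s => ?_⟩
  obtain ⟨(z : CohFin.HA f M 0), rfl⟩ := e.surjective s
  obtain ⟨r, hr⟩ := (Submodule.mem_span_range_iff_exists_fun R).1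
    (hx.ge (Submodule.mem_top (x := z)))
  refine ⟨r, ?_⟩
  rw [← hr]
  exact (map_sum e (fun i => (r i • x i : CohFin.HA f M 0)) _).trans
    (Finset.sum_congr rfl fun i _ => he _ _)

variable (L : X.Modules)

/-- Products of sections generate the sections of the powers. -/
def IsNormGen : Prop :=
  ∀ n : ℕ, 1 ≤ n → AddSubgroup.closure {t : Γ(CohB1.tensorPow L (n + 1), ⊤) |
    ∃ (m : Γ(CohB1.tensorPow L n, ⊤)) (s : Γ(L, ⊤)), t = tmulSec m s} = ⊤

variable {L}

/-- Induction over products of sections. -/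
theorem pow_induction (hng : IsNormGen L) (P : ∀ n : ℕ, Γ(CohB1.tensorPow L n, ⊤) → Prop)
    (h0 : ∀ b, P 0 b) (hzero : ∀ n, P n 0) (hadd : ∀ n a b, P n a → P n b → P n (a + b))
    (hneg : ∀ n a, P n a → P n (-a)) (hmul : ∀ n m s, P n m → P (n + 1) (tmulSec m s)) :
    ∀ n b, P n b := by
  intro n
  induction n with
  | zero => exact h0
  | succ n ih =>
    intro b
    rcases Nat.eq_zero_or_pos n with rfl | hn
    · obtain ⟨e, he⟩ := exists_leftUnitor L
      have hb : b = tmulSec (oneSec X ⊤) (e.hom.app ⊤ b) := by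
        have hinj : Function.Injective (e.hom.app ⊤) := Function.LeftInverse.injective
          (g := e.inv.app ⊤) fun z => congr($(e.hom_inv_id).app ⊤ z)
        refine hinj ((one_smul Γ(X, ⊤) _).symm.trans ?_)
        rw [he, toFun_oneSec]
      rw [hb]
      exact hmul _ _ _ (h0 _)
    · have hb : b ∈ AddSubgroup.closure _ := (hng n hn).ge (AddSubgroup.mem_top b)
      induction hb using AddSubgroup.closure_induction with
      | mem t ht =>
        obtain ⟨m, s, rfl⟩ := ht
        exact hmul _ _ _ (ih m)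
      | zero => exact hzero _
      | add a c _ _ ha hc => exact hadd _ _ _ ha hc
      | neg a _ ha => exact hneg _ _ ha

/-- A normally generated ample module is very ample over an affine Noetherian base. -/
theorem isRelVeryAmplePn [IsNoetherianRing R] [IsProper f] (hLa : CohB1.IsAmple L) (hng : IsNormGen L) :
    RelAmple.IsRelVeryAmplePn f L := by
  classical
  have hL := hLa.1
  haveI : CompactSpace X := hLa.2.1
  haveI : QuasiSeparatedSpace X :=
    haveI := isSeparated_of_cover hL hLa.2.2
    inferInstance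
  obtain ⟨k, σ, hσ⟩ := exists_span_sections f L (Groth.VarietyBC.CurveGG.isCoh_of_isInvertible hL)
  refine isRelVeryAmplePn_of_hasPnData ⟨k, Fin.cons 0 σ, fun x => ?_⟩
  let t : Fin (k + 1) → Γ(L, ⊤) := Fin.cons 0 σ
  -- a spanning section generates at `x`
  obtain ⟨j, hj⟩ : ∃ j, x ∈ gloc (t j) := by
    obtain ⟨n, s, hxs, -⟩ := hLa.2.2 x
    by_contra hno
    push Not at hno
    obtain ⟨W, e, hW, hxW, he⟩ := exists_affine_gen_mem hL x
    choose a ha using fun j => he.exists_coeff le_rfl (res L (le_top : W ≤ ⊤) (t j))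
    simp only [res_self] at ha
    let p := (X.presheaf.germ W x hxW).hom
    have hm : ∀ j, ¬ IsUnit (p (a j)) := fun j hu =>
      hno j ((gloc_inf_eq_basicOpen he (ha j)).ge ((X.mem_basicOpen (a j) x hxW).2 hu)).1
    have key : ∀ n b, 1 ≤ n → ∀ c, res _ (le_top : W ≤ ⊤) b = c • powSec e n → ¬ IsUnit (p c) := by
      refine pow_induction hng _ (fun _ h => absurd h (by omega)) ?_ ?_ ?_ ?_
      · intro n _ c hc
        rw [PicAux.res_zero] at hc
        have : (0 : Γ(X, W)) = c := (he.pow n).smul_inj le_rfl (by rw [res_self, zero_smul]; exact hc)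
        rw [← this, map_zero]
        exact not_isUnit_zero
      · intro n a' b' hA hB hn c hc
        obtain ⟨cA, hcA⟩ := (he.pow n).exists_coeff le_rfl (res _ (le_top : W ≤ ⊤) a')
        obtain ⟨cB, hcB⟩ := (he.pow n).exists_coeff le_rfl (res _ (le_top : W ≤ ⊤) b')
        rw [res_self] at hcA hcB
        rw [PicAux.res_add, hcA, hcB, ← add_smul] at hc
        have : cA + cB = c := (he.pow n).smul_inj le_rfl (by rw [res_self]; exact hc)
        rw [← this, map_add]
        exact fun hu => (IsLocalRing.isUnit_or_isUnit_of_isUnit_add hu).elim (hA hn _ hcA) (hB hn _ hcB)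
      · intro n a' hA hn c hc
        refine fun hu => hA hn (-c) ?_ ((map_neg p c).symm ▸ hu.neg)
        rw [res_neg'] at hc
        rw [neg_smul, ← hc, neg_neg]
      · intro n m s _ _ c hc
        obtain ⟨cm, hcm⟩ := (he.pow n).exists_coeff le_rfl (res _ (le_top : W ≤ ⊤) m)
        rw [res_self] at hcm
        obtain ⟨r, rfl⟩ := hσ s
        have h1 : ∀ i, res L (le_top : W ≤ ⊤) (bfun f (r i) • σ i) =
            (resX X (le_top : W ≤ ⊤) (bfun f (r i)) * a i.succ) • e := fun i => by
          rw [PicAux.res_smul, mul_smul]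
          exact congrArg (_ • ·) (ha i.succ)
        erw [res_tmulSec] at hc
        rw [res_sum', Finset.sum_congr rfl fun i _ => h1 i, ← Finset.sum_smul,
          hcm, tmulSec_smul_left, tmulSec_smul_right, ← mul_smul] at hc
        have : cm * ∑ i, resX X (le_top : W ≤ ⊤) (bfun f (r i)) * a i.succ = c :=
          (he.pow (n + 1)).smul_inj le_rfl (by rw [res_self]; exact hc)
        rw [← this, map_mul, map_sum]
        intro hu
        have hmem : ∑ i, p (resX X (le_top : W ≤ ⊤) (bfun f (r i)) * a i.succ) ∈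
            IsLocalRing.maximalIdeal (X.presheaf.stalk x) := Ideal.sum_mem _ fun i _ => by
          rw [map_mul]
          exact Ideal.mul_mem_left _ _ ((IsLocalRing.mem_maximalIdeal _).2 (hm i.succ))
        exact (IsLocalRing.mem_maximalIdeal _).1 hmem (isUnit_of_mul_isUnit_right hu)
    obtain ⟨c, hc⟩ := (he.pow (n + 1)).exists_coeff le_rfl (res _ (le_top : W ≤ ⊤) (gsec s))
    rw [res_self] at hc
    refine key _ _ (Nat.le_add_left 1 n) c hc ((X.mem_basicOpen c x hxW).1 ?_)
    exact (gloc_inf_eq_basicOpen (he.pow (n + 1)) hc).le ⟨(genLocus_eq_gloc s) ▸ hxs, hxW⟩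
  refine ⟨j, hj, ?_⟩
  let G := gloc (t j)
  have hG : IsAffineOpen G := isAffineOpen_gloc_of_universallyClosed f hLa (t j)
  refine (imm_of_isAffineOpen hG).mono fun g _ => ?_
  change g ∈ ratioRing f t j
  have hgen : Gen L G (res L (le_top : G ≤ ⊤) (t j)) := gen_gloc (t j) le_rfl
  have hbase : ∀ r : R, resX X (le_top : G ≤ ⊤) (bfun f r) ∈ ratioRing f t j := fun r =>
    Subring.subset_closure (Or.inl ⟨(Scheme.ΓSpecIso (CommRingCat.of R)).inv r, by
      rw [bfun, resX_resX]; rfl⟩)
  have hlin : ∀ (s : Γ(L, ⊤)) (c : Γ(X, G)),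
      res L (le_top : G ≤ ⊤) s = c • res L (le_top : G ≤ ⊤) (t j) → c ∈ ratioRing f t j := by
    intro s c hc
    obtain ⟨r, rfl⟩ := hσ s
    choose b hb using fun i : Fin k => hgen.exists_coeff le_rfl (res L (le_top : G ≤ ⊤) (σ i))
    simp only [res_self] at hb
    have : ∑ i, resX X (le_top : G ≤ ⊤) (bfun f (r i)) * b i = c := by
      refine hgen.smul_inj le_rfl ?_
      rw [res_self, Finset.sum_smul, ← hc, res_sum']
      exact Finset.sum_congr rfl fun i _ => by rw [mul_smul, ← hb, PicAux.res_smul]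
    rw [← this]
    exact sum_mem fun i _ => mul_mem (hbase _) (Subring.subset_closure (Or.inr ⟨i.succ, hb i⟩))
  obtain ⟨m, b, hb⟩ := exists_extend hL (t j) g
  refine pow_induction hng (fun m b => ∀ g : Γ(X, G),
    res _ (le_top : G ≤ ⊤) b = g • powSec (res L (le_top : G ≤ ⊤) (t j)) m → g ∈ ratioRing f t j)
    ?_ ?_ ?_ ?_ ?_ m b g hb
  · intro b g hg
    refine hlin (toFun b • t j) g ?_
    rw [PicAux.res_smul]
    congr 1
    have := congrArg toFun hg
    change resX X (le_top : G ≤ ⊤) (toFun b) = g * 1 at this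
    rwa [mul_one] at this
  · intro n g hg
    rw [PicAux.res_zero] at hg
    rw [← (hgen.pow n).smul_inj le_rfl (r := 0) (r' := g) (by rw [res_self, zero_smul]; exact hg)]
    exact zero_mem _
  · intro n a b hA hB g hg
    obtain ⟨cA, hcA⟩ := (hgen.pow n).exists_coeff le_rfl (res _ (le_top : G ≤ ⊤) a)
    obtain ⟨cB, hcB⟩ := (hgen.pow n).exists_coeff le_rfl (res _ (le_top : G ≤ ⊤) b)
    rw [res_self] at hcA hcB
    rw [PicAux.res_add, hcA, hcB, ← add_smul] at hg
    rw [← (hgen.pow n).smul_inj le_rfl (r := cA + cB) (r' := g) (by rw [res_self]; exact hg)]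
    exact add_mem (hA _ hcA) (hB _ hcB)
  · intro n a hA g hg
    rw [res_neg'] at hg
    have := hA (-g) (by rw [neg_smul, ← hg, neg_neg])
    simpa using neg_mem this
  · intro n m s hm g hg
    obtain ⟨cm, hcm⟩ := (hgen.pow n).exists_coeff le_rfl (res _ (le_top : G ≤ ⊤) m)
    obtain ⟨cs, hcs⟩ := hgen.exists_coeff le_rfl (res L (le_top : G ≤ ⊤) s)
    rw [res_self] at hcm hcs
    erw [res_tmulSec] at hg
    rw [hcm, hcs, tmulSec_smul_left, tmulSec_smul_right, ← mul_smul] at hg
    rw [← (hgen.pow (n + 1)).smul_inj le_rfl (r := cm * cs) (r' := g) (by rw [res_self]; exact hg)]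
    exact mul_mem (hm _ hcm) (hlin s cs hcs)

end Groth.FibreVA.NormalGen
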