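import Groth.Agent.FibreVA.Main
import Groth.Agent.Curves1.RR.VeryAmple
import Groth.Agent.Curves1.RR.Numerics
import Groth.Agent.CurveBridge.BaseChange
import Groth.Agent.CurveBridge.SmoothCurve
import Groth.Agent.PnCoh.OverAffine

/-!
# Smooth curves of degree at least `2g + 1`
-/

universe u

open CategoryTheory CategoryTheory.Limits AlgebraicGeometry TopologicalSpace

set_option backward.isDefEq.respectTransparency.types false

noncomputable section

namespace Groth.FibreVA.Curve

/-- An immersion into projective space over a field, in the relative form. -/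
theorem isRelVeryAmplePn_of_projSpace {R : Type u} [CommRing R] {X : Scheme.{u}}
    (q : X ⟶ Spec (CommRingCat.of R)) (L : X.Modules) {n : ℕ} (i : X ⟶ CohB1.ProjSpace n R)
    [IsImmersion i] (hi : i ≫ CohB1.ProjSpace.toSpec n R = q)
    (e : (Scheme.Modules.pullback i).obj (Twist.twistProjSpace n R 1) ≅ L) :
    RelAmple.IsRelVeryAmplePn q L := by
  obtain ⟨τ⟩ := Groth.PnCoh.nonempty_pullback_overIso_twist n R 1
  refine ⟨n, i ≫ (Groth.PnCoh.overIso n R).hom, inferInstance, ?_, ⟨?_⟩⟩
  · rw [Category.assoc]
    exact (congrArg (i ≫ ·) (Groth.PnCoh.overIso_hom_toBase n R)).trans hi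
  · exact e.symm ≪≫ (Scheme.Modules.pullback i).mapIso τ.symm ≪≫
      (Scheme.Modules.pullbackComp i (Groth.PnCoh.overIso n R).hom).app _

/-- Smooth, proper, geometrically connected schemes over a field are geometrically integral. -/
theorem geometricallyIntegral_of_connected (k : Type u) [Field k] {X : Scheme.{u}}
    (f : X ⟶ Spec (CommRingCat.of k)) [IsProper f] [Smooth f] [GeometricallyConnected f] :
    GeometricallyIntegral f := by
  refine ⟨fun K _ y Y fst snd h => ?_⟩
  let : Y.Over (Spec (CommRingCat.of K)) := ⟨snd⟩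
  have : IsProper (Y ↘ Spec (CommRingCat.of K)) := MorphismProperty.of_isPullback h ‹IsProper f›
  have : Smooth (Y ↘ Spec (CommRingCat.of K)) := MorphismProperty.of_isPullback h ‹Smooth f›
  have : ConnectedSpace Y := GeometricallyConnected.geometrically_connectedSpace y fst snd h
  exact Groth.CurveBridge.isIntegral_of_smooth K Y

/-- Degree at least `2g + 1` on a smooth geometrically connected curve: very ample, `H¹ = 0`. -/
theorem veryAmple_and_h1 (k : Type u) [Field k] (X : Scheme.{u}) [X.Over (Spec (CommRingCat.of k))]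
    [IsProper (X ↘ Spec (CommRingCat.of k))] [Smooth (X ↘ Spec (CommRingCat.of k))]
    [GeometricallyConnected (X ↘ Spec (CommRingCat.of k))] (hdim : topologicalKrullDim X = 1)
    (L : X.Modules) (hL : PicF.IsInvertible L)
    (hdeg : 2 * (Curv2.genus k X : ℤ) + 1 ≤ Curv2.deg k X L 1) :
    RelAmple.IsRelVeryAmplePn (X ↘ Spec (CommRingCat.of k)) L ∧ Subsingleton (Coh.HH X L 1) := by
  have := geometricallyIntegral_of_connected k (X ↘ Spec (CommRingCat.of k))
  have := Groth.CurveBridge.connectedSpace_of_geometrically X k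
  have := Groth.CurveBridge.isIntegral_of_smooth k X
  have h0 := Groth.CurveBridge.h0_of_geometrically k X hdim
  obtain ⟨n, i, hi, hq, ⟨e⟩⟩ := Groth.Curves1.RR.veryAmple_of_deg_ge k hdim h0 L hL hdeg
  exact ⟨isRelVeryAmplePn_of_projSpace _ L i hq e,
    Groth.Curves1.RR.subsingleton_h1_of_deg_ge k hdim.le h0 hL (by omega)⟩

end Groth.FibreVA.Curve
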