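import Groth.Agent.CohBase.FibreSections
import Groth.Agent.Limits.DegreeZero

/-!
# Sections on fibres of dimension at most one

Over an arbitrary base, sections on a fibre without first cohomology extend to a neighbourhood
when all fibres have dimension at most one; no flatness is needed.
-/

universe u

open CategoryTheory Limits AlgebraicGeometry TopologicalSpace Opposite
open Groth.QCohMod (resFun res_app)
open Groth.PicAux (pullSec pullSec_smul res_pullSec pullSec_comp restrictIso_pullSec pullSec_map)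

set_option backward.isDefEq.respectTransparency.types false

namespace Groth.FibreVA.DimOne

open Groth.CohBase Groth.Limits.FibreVanishing Groth.FlatCxBase

section Alg

variable {A : Type u} [CommRing A] {A' : Type u} [CommRing A'] [Algebra A A'] {X X' : Scheme.{u}}
  [X.Over (Spec (CommRingCat.of A))] [X'.Over (Spec (CommRingCat.of A'))] {g : X' ⟶ X}
  (hsq : IsBC (A := A) (A' := A') g) (F : X.Modules)

include hsq in
/-- Lifting sections from the fibre at a prime when `H¹(X, F) = 0` and fibres have dimension `≤ 1`. -/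
theorem exists_pullSec_eq_smul [IsProper (X ↘ Spec (CommRingCat.of A))] [F.IsQuasicoherent]
    (hd : ∀ P, topologicalKrullDim ↥((X ↘ Spec (CommRingCat.of A)).fiber P) ≤ (1 : ℕ))
    (hH : Subsingleton (Coh.HH X F 1))
    (p : Ideal A) [p.IsPrime]
    (hgen : ∀ x : A', ∃ g ∉ p, ∃ a, algebraMap A A' g * x = algebraMap A A' a)
    (t : Γ((Scheme.Modules.pullback g).obj F, ⊤)) :
    ∃ c ∉ p, ∃ s : Γ(F, ⊤), QCohMod.res _ (le_top : ⊤ ≤ g ⁻¹ᵁ ⊤) (pullSec g F s) =
      (show Γ(X', ⊤) from Coh.toGlobal (X' ↘ Spec (CommRingCat.of A')) (algebraMap A A' c)) • t := by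
  have := CohFin.compactSpace_of_proper (X ↘ Spec (CommRingCat.of A))
  have := CohFin.isSeparated_of_proper (X ↘ Spec (CommRingCat.of A))
  have hvan : ∀ (K : X.Modules) [K.IsQuasicoherent], Subsingleton (Coh.HH X K (0 + 2)) :=
    fun K hK => subsingleton_HH_of_dim_fiber_le (A := A) 1 hd K (0 + 2) (by omega)
  obtain ⟨G⟩ := exists_goodCover X
  let T := CohIII.TFun (cxA A G.U F) ((0 : ℕ) : ℤ)
  obtain ⟨z, hz⟩ := exists_cocycle hsq F G t
  let ρ : ModuleCat.of A A ⟶ ModuleCat.of A A' := ModuleCat.ofHom (Algebra.linearMap A A')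
  let cls := clsT (cxA A G.U F) (cochain_next ((0 : ℕ) : ℤ))
  have key : ∀ x : T.obj (ModuleCat.of A A'), ∃ c ∉ p, ∃ a₀ : T.obj (ModuleCat.of A A),
      T.map ρ a₀ = c • x := by
    intro x
    refine AddSubgroup.closure_induction (p := fun x _ => ∃ c ∉ p, ∃ a₀, T.map ρ a₀ = c • x) ?_
      ⟨1, Ideal.IsPrime.one_notMem ‹_›, 0, by simp⟩ ?_ ?_
      (exists_span_TFun_of_surjective G F 0 (TFun_map_surjective_of_next G F 0 hvan hH) A' x)
    · rintro _ ⟨b, c₀, rfl⟩
      obtain ⟨c, hc, a, ha⟩ := hgen b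
      refine ⟨c, hc, a • c₀, ?_⟩
      obtain ⟨w, rfl⟩ := clsT_surjective (cxA A G.U F) (cochain_next ((0 : ℕ) : ℤ))
        (ModuleCat.of A A) c₀
      rw [← map_smul, TFun_map_clsT, TFun_map_clsT, ← map_smul]
      congr 1
      apply Subtype.ext
      change (Algebra.linearMap A A').lTensor _ (a • w.1) =
        c • (LinearMap.toSpanSingleton A A' b).lTensor _ w.1
      rw [map_smul, ← LinearMap.smul_apply, ← LinearMap.smul_apply, ← LinearMap.lTensor_smul,
        ← LinearMap.lTensor_smul]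
      congr 2
      exact LinearMap.ext_ring (by simp [Algebra.smul_def, ha])
    · rintro a b _ _ ⟨c, hc, x, hx⟩ ⟨d, hd', y, hy⟩
      refine ⟨c * d, fun h => (Ideal.IsPrime.mem_or_mem ‹_› h).elim hc hd', d • x + c • y, ?_⟩
      rw [map_add, map_smul, map_smul, hx, hy, smul_add, smul_smul, smul_smul, mul_comm d c]
    · rintro a _ ⟨c, hc, x, hx⟩
      exact ⟨c, hc, -x, by rw [map_neg, hx, smul_neg]⟩
  obtain ⟨c, hc, a₀, ha₀⟩ := key (cls (ModuleCat.of A A') z)
  obtain ⟨z₀, hz₀⟩ := clsT_surjective (cxA A G.U F) (cochain_next ((0 : ℕ) : ℤ)) (ModuleCat.of A A) a₀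
  rw [← hz₀, TFun_map_clsT, ← map_smul] at ha₀
  have h3 := congrArg Subtype.val ((clsT_zero_bijective A G F (ModuleCat.of A A')).1 ha₀)
  have hz' : (bcModel hsq F G).toTop 0 (c • z.1) =
      (SecModel.res' (g := g) G.hcov ((Scheme.Modules.pullback g).obj F)).ι.app ⊤
        ((show Γ(X', ⊤) from Coh.toGlobal (X' ↘ Spec (CommRingCat.of A')) (algebraMap A A' c)) • t) := by
    funext x
    refine (toTop_bcModel_smul hsq F G c z.1 x).trans ?_
    rw [hz]
    exact (QCohMod.res_smul _ _ _ _).symm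
  obtain ⟨s, hs⟩ := exists_pullSec_of_cocycle hsq F G _ (c • z.1) hz' z₀ h3
  exact ⟨c, hc, s, hs⟩

end Alg

section Geom

/-- Restrictions of quasi-coherent modules of finite type are of the same kind. -/
theorem isCoh_restrict' {X : Scheme.{u}} {M : X.Modules} (hM : Coh.IsCoh M) (U : X.Opens) :
    Coh.IsCoh (M.restrict U.ι) := by
  have := hM.1
  have : (M.restrict U.ι).IsQuasicoherent := inferInstance
  exact ⟨this, Groth.QCohMod.isFT_of_iso ((Scheme.Modules.restrictFunctorIsoPullback U.ι).app M).symm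
    (Groth.QCohMod.isFT_pullback U.ι M hM.2)⟩

variable {X S : Scheme.{u}} (f : X ⟶ S) [IsProper f]

/-- First cohomology vanishes over a neighbourhood of a point with acyclic fibre. -/
theorem exists_nhd_subsingleton (hd : ∀ y : S, topologicalKrullDim ↥(f.fiber y) ≤ (1 : ℕ))
    (M : X.Modules) (hM : Coh.IsCoh M) (y : S)
    (h1 : Subsingleton (Coh.HH (f.fiber y) (CohIII.fiberMod f M y) 1)) :
    ∃ V : S.Opens, IsAffineOpen V ∧ y ∈ V ∧
      Subsingleton (Coh.HH (f ⁻¹ᵁ V : X.Opens) (M.restrict (f ⁻¹ᵁ V).ι) 1) := by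
  classical
  obtain ⟨V, hV, hy, -⟩ := exists_isAffineOpen_mem_and_subset (X := S) (x := y) (U := ⊤) trivial
  let XV : Scheme.{u} := (f ⁻¹ᵁ V : X.Opens)
  let : XV.Over (Spec (CommRingCat.of Γ(S, V))) := ⟨preimageToSpec f⟩
  have : IsProper (XV ↘ Spec (CommRingCat.of Γ(S, V))) :=
    MorphismProperty.of_isPullback (isPullback_preimageToSpec f hV) ‹IsProper f›
  have hd' : ∀ P, topologicalKrullDim ↥((XV ↘ Spec (CommRingCat.of Γ(S, V))).fiber P) ≤ (1 : ℕ) :=
    fun P => by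
      have hP : hV.fromSpec.base P ∈ V := hV.range_fromSpec.le ⟨P, rfl⟩
      have e : hV.primeIdealOf ⟨_, hP⟩ = P := hV.fromSpec.isEmbedding.injective
        (hV.fromSpec_primeIdealOf ⟨_, hP⟩)
      have h := dim_fiber_preimageToSpec_le f hV _ hP 1 (hd _)
      rwa [e] at h
  let G : XV.Modules := M.restrict (f ⁻¹ᵁ V).ι
  have hG : Coh.IsCoh G := isCoh_restrict' hM _
  have := hG.1
  let : Algebra Γ(S, V) (S.residueField y) := (S.evaluation V y hy).hom.toAlgebra
  let : (f.fiber y).Over (Spec (CommRingCat.of (S.residueField y))) :=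
    ⟨f.fiberToSpecResidueField y⟩
  have h1' : Subsingleton (Coh.HH (f.fiber y)
      ((Scheme.Modules.pullback (fibreToPreimage f y hy)).obj G) 1) :=
    @Equiv.subsingleton _ _ (haIsoEquiv (f.fiberToSpecResidueField y) (fibreModIso f M y hy) 1).toEquiv h1
  have hfin := finite_HH_top (A := Γ(S, V)) 1 hd' G hG
  obtain ⟨σ, hσ⟩ := hfin.fg_top
  choose r hr hrσ using exists_smul_eq_zero_of_fibre (X := XV) 1 hd' G hG (S.residueField y)
    (gk := fibreToPreimage f y hy) (isPullback_fibreToPreimage f hV y hy) h1'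
  let c : Γ(S, V) := ∏ x ∈ σ, r x
  have hc : algebraMap Γ(S, V) (S.residueField y) c ≠ 0 := by
    rw [map_prod]
    exact Finset.prod_ne_zero_iff.2 fun x _ => hr x
  have hkill : ∀ h : Coh.HH XV G 1, c • h = 0 := fun h => by
    refine Submodule.span_induction (p := fun h _ => c • h = 0) (fun x hx => ?_) (smul_zero _)
      (fun a b _ _ ha hb => by rw [smul_add, ha, hb, add_zero])
      (fun a b _ hb => by rw [smul_comm, hb, smul_zero]) (hσ.ge (Submodule.mem_top (x := h)))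
    obtain ⟨b, hb⟩ := Finset.dvd_prod_of_mem r hx
    rw [show c = r x * b from hb, mul_comm, mul_smul, hrσ, smul_zero]
  let V' : S.Opens := S.basicOpen c
  have hV' : IsAffineOpen V' := hV.basicOpen c
  have hle : V' ≤ V := S.basicOpen_le c
  refine ⟨V', hV', (S.evaluation_ne_zero_iff_mem_basicOpen y hy c).1 hc, ?_⟩
  let XV' : Scheme.{u} := (f ⁻¹ᵁ V' : X.Opens)
  let : XV'.Over (Spec (CommRingCat.of Γ(S, V'))) := ⟨preimageToSpec f⟩
  let : Algebra Γ(S, V) Γ(S, V') := (S.presheaf.map (homOfLE hle).op).hom.toAlgebra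
  let ρ : XV' ⟶ XV := X.homOfLE (f.preimage_mono hle)
  have hsq : IsBC (A := Γ(S, V)) (A' := Γ(S, V')) ρ := by
    have h : IsPullback (ρ ≫ (f ⁻¹ᵁ V).ι) (preimageToSpec f (V := V')) f
        (Spec.map (S.presheaf.map (homOfLE hle).op) ≫ hV.fromSpec) := by
      rw [Scheme.homOfLE_ι, hV.map_fromSpec hV' (homOfLE hle).op]
      exact isPullback_preimageToSpec f hV'
    refine h.of_right ?_ (isPullback_preimageToSpec f hV)
    rw [← cancel_mono hV.fromSpec, Category.assoc, Category.assoc,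
      show (XV ↘ Spec (CommRingCat.of Γ(S, V))) = preimageToSpec f from rfl,
      ← (isPullback_preimageToSpec f hV).w, ← Category.assoc]
    exact h.w
  have hu : IsUnit (algebraMap Γ(S, V) Γ(S, V') c) := S.toRingedSpace.isUnit_res_basicOpen c
  have hsub := subsingleton_HH_of_killed (X := XV) 1 hd' G (g := ρ) hsq
    fun h => ⟨c, hu, hkill h⟩
  refine @Equiv.subsingleton _ _ (haIsoEquiv (preimageToSpec f (V := V')) (Iso.symm ?_) 1).toEquiv hsub
  exact (Scheme.Modules.pullback ρ).mapIso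
      ((Scheme.Modules.restrictFunctorIsoPullback (f ⁻¹ᵁ V).ι).app M) ≪≫
    (Scheme.Modules.pullbackComp ρ (f ⁻¹ᵁ V).ι).app M ≪≫
    (Scheme.Modules.pullbackCongr (X.homOfLE_ι _)).app M ≪≫
    ((Scheme.Modules.restrictFunctorIsoPullback (f ⁻¹ᵁ V').ι).app M).symm

/-- A section on a fibre without first cohomology extends to a neighbourhood of the fibre, all
fibres having dimension at most one. -/
theorem exists_section_lift (hd : ∀ y : S, topologicalKrullDim ↥(f.fiber y) ≤ (1 : ℕ))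
    (M : X.Modules) (hM : Coh.IsCoh M) (y : S)
    (h1 : Subsingleton (Coh.HH (f.fiber y) (CohIII.fiberMod f M y) 1))
    (t : Γ(CohIII.fiberMod f M y, ⊤)) :
    ∃ (U : S.Opens) (_ : y ∈ U) (e : (⊤ : (f.fiber y).Opens) ≤ f.fiberι y ⁻¹ᵁ f ⁻¹ᵁ U)
      (s : Γ(M, f ⁻¹ᵁ U)), QCohMod.res _ e (pullSec (f.fiberι y) M s) = t := by
  obtain ⟨V, hV, hy, hH⟩ := exists_nhd_subsingleton f hd M hM y h1
  let q : ((f ⁻¹ᵁ V : X.Opens) : Scheme.{u}) ⟶ Spec (CommRingCat.of Γ(S, V)) := preimageToSpec f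
  let : ((f ⁻¹ᵁ V : X.Opens) : Scheme.{u}).Over (Spec (CommRingCat.of Γ(S, V))) := ⟨q⟩
  have : IsProper (((f ⁻¹ᵁ V : X.Opens) : Scheme.{u}) ↘ Spec (CommRingCat.of Γ(S, V))) :=
    MorphismProperty.of_isPullback (isPullback_preimageToSpec f hV) ‹IsProper f›
  have hd' : ∀ P, topologicalKrullDim
      ↥(((f ⁻¹ᵁ V : X.Opens).toScheme ↘ Spec (CommRingCat.of Γ(S, V))).fiber P) ≤ (1 : ℕ) := fun P => by
    have hP : hV.fromSpec.base P ∈ V := hV.range_fromSpec.le ⟨P, rfl⟩
    have e : hV.primeIdealOf ⟨_, hP⟩ = P := hV.fromSpec.isEmbedding.injective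
      (hV.fromSpec_primeIdealOf ⟨_, hP⟩)
    have h := dim_fiber_preimageToSpec_le f hV _ hP 1 (hd _)
    rwa [e] at h
  let G := M.restrict (f ⁻¹ᵁ V).ι
  have hG : Coh.IsCoh G := isCoh_restrict' hM _
  have := hG.1
  let : Algebra Γ(S, V) (S.residueField y) := (S.evaluation V y hy).hom.toAlgebra
  let : (f.fiber y).Over (Spec (CommRingCat.of (S.residueField y))) :=
    ⟨f.fiberToSpecResidueField y⟩
  let g := fibreToPreimage f y hy
  have hsq : IsBC (A := Γ(S, V)) (A' := S.residueField y) g := isPullback_fibreToPreimage f hV y hy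
  let θ := fibreModIso f M y hy
  let p := (hV.primeIdealOf ⟨y, hy⟩).asIdeal
  have hmem : ∀ a : Γ(S, V), a ∉ p ↔ y ∈ S.basicOpen a := fun a =>
    (Groth.QCohMod.mem_basicOpen_iff_notMem_primeIdealOf hV a y hy).symm
  have hker : ∀ a, algebraMap Γ(S, V) (S.residueField y) a = 0 ↔ a ∈ p := fun a => by
    rw [← not_iff_not, hmem]
    exact S.evaluation_ne_zero_iff_mem_basicOpen y hy a
  have hgen : ∀ x : S.residueField y, ∃ c ∉ p, ∃ a,
      algebraMap Γ(S, V) (S.residueField y) c * x = algebraMap Γ(S, V) (S.residueField y) a := by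
    intro x
    obtain ⟨x, rfl⟩ := S.residue_surjective y x
    let := TopCat.Presheaf.algebra_section_stalk S.presheaf ⟨y, hy⟩
    have := hV.isLocalization_stalk ⟨y, hy⟩
    obtain ⟨⟨a, c⟩, hc⟩ := IsLocalization.surj p.primeCompl x
    refine ⟨c.1, c.2, a, ?_⟩
    change S.evaluation V y hy c.1 * S.residue y x = S.evaluation V y hy a
    rw [← Scheme.germ_residue, CommRingCat.comp_apply, CommRingCat.comp_apply, ← map_mul]
    exact congrArg _ ((mul_comm _ _).trans hc)
  obtain ⟨c, hc, s, hs⟩ := exists_pullSec_eq_smul hsq G hd' hH p hgen (θ.inv.app ⊤ t)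
  obtain ⟨m, rfl⟩ : ∃ m : Γ(M, f ⁻¹ᵁ V),
      QCohMod.res M (Scheme.Opens.ι_image_le (f ⁻¹ᵁ V) ⊤) m = s :=
    ⟨QCohMod.res M (show f ⁻¹ᵁ V ≤ (f ⁻¹ᵁ V).ι ''ᵁ ⊤ by rw [Scheme.Opens.ι_image_top]) s,
      (QCohMod.res_res M _ _ _).trans (QCohMod.res_self M _)⟩
  let U := S.basicOpen c
  have hyU : y ∈ U := (hmem c).1 hc
  have eV : (⊤ : (f.fiber y).Opens) ≤ f.fiberι y ⁻¹ᵁ f ⁻¹ᵁ V := fun x _ => by
    change f (f.fiberι y x) ∈ V
    rw [← Scheme.Hom.comp_apply, f.fiber_fac, Scheme.Hom.comp_apply,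
      Scheme.fromSpecResidueField_apply]
    exact hy
  have eU : (⊤ : (f.fiber y).Opens) ≤ f.fiberι y ⁻¹ᵁ f ⁻¹ᵁ U := fun x _ => by
    change f (f.fiberι y x) ∈ U
    rw [← Scheme.Hom.comp_apply, f.fiber_fac, Scheme.Hom.comp_apply,
      Scheme.fromSpecResidueField_apply]
    exact hyU
  have hu : IsUnit (resFun S (S.basicOpen_le c) c) := S.toRingedSpace.isUnit_res_basicOpen c
  obtain ⟨d, hd⟩ := hu.exists_left_inv
  refine ⟨U, hyU, eU, f.app U d • QCohMod.res M (f.preimage_mono (S.basicOpen_le c)) m, ?_⟩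
  have h2 := ((fibreModIso_pullSec f M y hy m le_top eV).symm.trans
    (congrArg (θ.hom.app ⊤) hs)).trans (θ.hom.app_smul _ _)
  rw [show θ.hom.app ⊤ (θ.inv.app ⊤ t) = t from congr($(θ.inv_hom_id).app ⊤ t)] at h2
  rw [pullSec_smul, ← res_pullSec', QCohMod.res_smul]
  refine Eq.trans (congrArg (HSMul.hSMul (α := Γ(f.fiber y, ⊤))
    (β := Γ(CohIII.fiberMod f M y, ⊤)) (γ := Γ(CohIII.fiberMod f M y, ⊤)) _)
    ((QCohMod.res_res _ _ _ _).trans h2)) ?_
  refine (smul_smul _ _ _).trans ?_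
  refine Eq.trans ?_ (one_smul Γ(f.fiber y, ⊤) t)
  congr 1
  have key : (show Γ(f.fiber y, ⊤) from Coh.toGlobal (f.fiberToSpecResidueField y)
      (S.evaluation V y hy c)) = resFun _ eV ((f.fiberι y).app _ (f.app V c)) := by
    have w := app_toSec hsq ⊤ c
    have hA : toSec Γ(S, V) (⊤ : ((f ⁻¹ᵁ V : X.Opens) : Scheme.{u}).Opens) c =
        ((f ⁻¹ᵁ V).ι.appLE (f ⁻¹ᵁ V) ⊤ (Scheme.Opens.ι_preimage_self _).ge) (f.app V c) := by
      refine Eq.trans ?_ (congrArg _ (appIso_preimageToSpec f c))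
      change (preimageToSpec f).appLE ⊤ ⊤ le_top ((Scheme.ΓSpecIso Γ(S, V)).inv c) = _
      simp [Scheme.Hom.appLE, Coh.toGlobal, Scheme.Opens.ι_appIso]
      change _ = resFun X _ (resFun X _ (resFun X _ _))
      rw [QCohMod.resFun_resFun, QCohMod.resFun_resFun]
      exact (QCohMod.resFun_self _).symm
    rw [hA] at w
    refine Eq.trans ?_ (w.symm.trans ?_)
    · change (f.fiberToSpecResidueField y).appTop ((Scheme.ΓSpecIso (S.residueField y)).inv _) =
        (f.fiberToSpecResidueField y).appLE ⊤ (g ⁻¹ᵁ ⊤) le_top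
          ((Scheme.ΓSpecIso (S.residueField y)).inv _)
      simp [Scheme.Hom.appLE]
      rfl
    · have e₁ : (⊤ : (f.fiber y).Opens) ≤ (g ≫ (f ⁻¹ᵁ V).ι) ⁻¹ᵁ (f ⁻¹ᵁ V) := by
        simpa only [g, fibreToPreimage_ι] using eV
      refine Eq.trans ?_ (show (g ≫ (f ⁻¹ᵁ V).ι).appLE (f ⁻¹ᵁ V) ⊤ e₁ (f.app V c) =
        (f.fiberι y).appLE (f ⁻¹ᵁ V) ⊤ eV (f.app V c) by simp only [g, fibreToPreimage_ι])
      rw [← Scheme.Hom.appLE_comp_appLE g (f ⁻¹ᵁ V).ι (f ⁻¹ᵁ V) ⊤ ⊤
        (Scheme.Opens.ι_preimage_self _).ge le_top, CommRingCat.comp_apply]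
      simp [Scheme.Hom.appLE]
      rfl
  refine (congrArg (_ * ·) key).trans ?_
  have hcd : f.app U d * resFun X (f.preimage_mono (S.basicOpen_le c)) (f.app V c) = 1 := by
    rw [show resFun X (f.preimage_mono (S.basicOpen_le c)) (f.app V c) =
      f.app U (resFun S (S.basicOpen_le c) c) from
        (ConcreteCategory.congr_hom (f.naturality (homOfLE (S.basicOpen_le c)).op) c).symm,
      ← map_mul, hd, map_one]
  have h5 : resFun _ eV ((f.fiberι y).app _ (f.app V c)) = resFun _ eU ((f.fiberι y).app _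
      (resFun X (f.preimage_mono (S.basicOpen_le c)) (f.app V c))) := by
    rw [show (f.fiberι y).app _ (resFun X (f.preimage_mono (S.basicOpen_le c)) (f.app V c)) =
      resFun _ ((f.fiberι y).preimage_mono (f.preimage_mono (S.basicOpen_le c)))
        ((f.fiberι y).app _ (f.app V c)) from
          ConcreteCategory.congr_hom ((f.fiberι y).naturality
            (homOfLE (f.preimage_mono (S.basicOpen_le c))).op) _, QCohMod.resFun_resFun]
  rw [h5, ← map_mul, ← map_mul, hcd, map_one, map_one]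

end Geom

end Groth.FibreVA.DimOne
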