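import Groth.Agent.FibreVA.LiftDimOne
import Groth.Agent.Limits.ProperFibreModel

/-!
# Finiteness of sections over an arbitrary base in fibre dimension at most one
-/

universe u

open CategoryTheory Limits AlgebraicGeometry TopologicalSpace Opposite

set_option backward.isDefEq.respectTransparency false
set_option backward.defeqAttrib.useBackward true
set_option backward.isDefEq.respectTransparency.types false

namespace Groth.FibreVA.DimOne

open Groth.CohBase Groth.Limits.FibreVanishing

variable {A : Type u} [CommRing A] {A' : Type u} [CommRing A'] [Algebra A A'] {X : Scheme.{u}}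
  [X.Over (Spec (CommRingCat.of A))]

/-- Sections of a base change are finite when `H¹` and all second cohomology vanish upstairs. -/
theorem finite_HH_zero_pullback [X.IsSeparated] [CompactSpace X] {X' : Scheme.{u}}
    [X'.Over (Spec (CommRingCat.of A'))] {g : X' ⟶ X} (hsq : CohBase.IsBC (A := A) (A' := A') g)
    (F : X.Modules) [F.IsQuasicoherent]
    (hvan : ∀ (K : X.Modules) [K.IsQuasicoherent], Subsingleton (Coh.HH X K (0 + 2)))
    (h1 : Subsingleton (Coh.HH X F 1))
    (hfin : Module.Finite A (Coh.HH X F 0)) :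
    Module.Finite A' (Coh.HH X' ((Scheme.Modules.pullback g).obj F) 0) := by
  classical
  obtain ⟨G⟩ := CohBase.exists_goodCover X
  obtain ⟨e, he⟩ := CohBase.exists_bcEquiv hsq F G 0
  let C := CohBase.cxA A G.U F
  let T := CohIII.TFun C ((0 : ℕ) : ℤ)
  let α : ModuleCat.of A A ⟶ ModuleCat.of A A' := ModuleCat.ofHom (Algebra.linearMap A A')
  haveI : Module.Finite A (T.obj (ModuleCat.of A A)) :=
    Module.Finite.equiv (CohBase.selfLinIso A G F 0).symm
  obtain ⟨S, hS⟩ := (Module.Finite.fg_top : (⊤ : Submodule A (T.obj (ModuleCat.of A A))).FG)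
  let u : T.obj (ModuleCat.of A A) → Coh.HH X' ((Scheme.Modules.pullback g).obj F) 0 :=
    fun c => e (T.map α c)
  let Q := Submodule.span A' (↑(S.image u) : Set (Coh.HH X' ((Scheme.Modules.pullback g).obj F) 0))
  have hsm : ∀ (a : A) (c : T.obj (ModuleCat.of A A)), u (a • c) = algebraMap A A' a • u c := by
    intro a c
    change e (T.map α (a • c)) = _
    rw [← he]
    refine congrArg e ?_
    obtain ⟨z, rfl⟩ := FlatCxBase.clsT_surjective C (FlatCxBase.cochain_next ((0 : ℕ) : ℤ)) _ c
    rw [← map_smul, FlatCxBase.TFun_map_clsT, FlatCxBase.TFun_map_clsT, FlatCxBase.TFun_map_clsT]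
    congr 1
    apply Subtype.ext
    change (Algebra.linearMap A A').lTensor _ (a • z.1) =
      (LinearMap.mul A A' (algebraMap A A' a)).lTensor _ ((Algebra.linearMap A A').lTensor _ z.1)
    rw [← LinearMap.lTensor_comp_apply, show (LinearMap.mul A A' (algebraMap A A' a)).comp
      (Algebra.linearMap A A') = a • Algebra.linearMap A A' from LinearMap.ext fun r => by
        simp [Algebra.smul_def], LinearMap.lTensor_smul, LinearMap.smul_apply, map_smul]
  have hu : ∀ c, u c ∈ Q := fun c => by
    refine Submodule.span_induction (p := fun c _ => u c ∈ Q)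
      (fun c hc => Submodule.subset_span (Finset.mem_coe.2 (Finset.mem_image_of_mem u hc))) ?_
      (fun a b _ _ ha hb => ?_) (fun a b _ hb => ?_) (hS.ge trivial : c ∈ _)
    · change e (T.map α 0) ∈ Q
      rw [map_zero, map_zero]
      exact Q.zero_mem
    · change e (T.map α (a + b)) ∈ Q
      rw [map_add, map_add]
      exact Q.add_mem ha hb
    · rw [hsm]
      exact Q.smul_mem _ hb
  refine ⟨⟨S.image u, eq_top_iff.2 fun y _ => ?_⟩⟩
  obtain ⟨c, rfl⟩ := e.surjective y
  refine AddSubgroup.closure_induction (p := fun c _ => e c ∈ Q) ?_ (by rw [map_zero]; exact Q.zero_mem)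
    (fun a b _ _ ha hb => by rw [map_add]; exact Q.add_mem ha hb)
    (fun a _ ha => by rw [map_neg]; exact Q.neg_mem ha) (exists_span_TFun_of_surjective G F 0 (TFun_map_surjective_of_next G F 0 hvan h1) A' c)
  rintro _ ⟨b, c₀, rfl⟩
  have hcomp : (show ModuleCat.of A A ⟶ ModuleCat.of A A' from
      ModuleCat.ofHom (LinearMap.toSpanSingleton A A' b)) =
      α ≫ ModuleCat.ofHom (LinearMap.mul A A' b) :=
    ModuleCat.hom_ext (LinearMap.ext_ring (by simp [α]))
  rw [hcomp, Functor.map_comp, ModuleCat.comp_apply, he]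
  exact Q.smul_mem _ (hu c₀)

end Groth.FibreVA.DimOne
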