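import Groth.Agent.FibreVA.Main
import Groth.Agent.FibreVA.Curve
import Groth.Agent.FibreVA.LiftDimOne
import Groth.Agent.FibreVA.PushFinite
import Groth.Agent.OmegaSheaf.Smooth
import Groth.Agent.OmegaSheaf.Pull
import Groth.Agent.Curves1.RR.EtaleGenusZero
import Groth.Agent.VarietyBC.CurveDeg
import Groth.Agent.PicAux.PullTensor
import Groth.Agent.PicAux.Powers
import Groth.Agent.EulerDeg.Tensor
import Groth.Agent.CohFin.ProjFinite
import Groth.Agent.Divisors.AssocPush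

/-!
# Pluricanonical embeddings of families of curves
-/

universe u

open CategoryTheory CategoryTheory.Limits AlgebraicGeometry TopologicalSpace Opposite

set_option backward.isDefEq.respectTransparency.types false

noncomputable section

namespace Groth.FibreVA.CurveFamily

open Groth.PicAux Groth.CohBase Groth.Limits.FibreVanishing

variable {X S : Scheme.{u}}

/-- A locally free module with invertible restriction to a scheme through each point is invertible. -/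
theorem isInvertible_of_fibres (f : X ⟶ S) {M : X.Modules} (hM : FlatMod.IsFinLocFree M)
    (h : ∀ s, PicF.IsInvertible ((Scheme.Modules.pullback (f.fiberι s)).obj M)) :
    PicF.IsInvertible M := by
  rw [Groth.LocFree.isInvertible_iff_ofRank_one]
  intro x
  obtain ⟨U, n, hx, ⟨e⟩⟩ := hM x
  obtain ⟨z, hz⟩ : x ∈ Set.range (f.fiberι (f x)) := by
    rw [Scheme.Hom.range_fiberι]; rfl
  let g := f.fiberι (f x)
  have h' := Groth.LocFree.isInvertible_iff_ofRank_one.1 (h (f x))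
  obtain ⟨s, hs⟩ := Groth.LocFree.exists_basis_of_iso e
  obtain ⟨e'⟩ := Groth.LocFree.nonempty_iso_of_basis (hs.pull g)
  have hn := Groth.LocFree.rank_unique
    (Groth.LocFree.isFinLocFreeOfRank_of_iso e'.symm
      (Groth.LocFree.isFinLocFreeOfRank_freeMod _ n))
    (Groth.LocFree.isFinLocFreeOfRank_restrict (g ⁻¹ᵁ U).ι h') ⟨z, show g z ∈ U from by rw [hz]; exact hx⟩
  subst hn
  exact ⟨U, hx, ⟨e⟩⟩

/-- Pullback of powers of differentials along a base change. -/
theorem nonempty_pullback_omegaPow {X' S' : Scheme.{u}} {f : X ⟶ S} {f' : X' ⟶ S'} {h : X' ⟶ X}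
    {b : S' ⟶ S} [QuasiSeparated f] [QuasiSeparated f'] (sq : IsPullback h f' f b) (n : ℕ) :
    Nonempty ((Scheme.Modules.pullback h).obj (CohB1.tensorPow (Omega.sheaf f) n) ≅
      CohB1.tensorPow (Omega.sheaf f') n) := by
  obtain ⟨e⟩ := Groth.OmegaSheaf.nonempty_pullback_iso sq
    (Groth.OmegaSheaf.isUniversal_dOmega f) (Groth.OmegaSheaf.isUniversal_dOmega f')
  obtain ⟨e₁⟩ := Groth.PicAux.pullback_tensorPow h (Omega.sheaf f) n
  exact ⟨e₁ ≪≫ (Groth.PicAux.nonempty_tensorPow_iso e n).some⟩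

section Fibre

variable (f : X ⟶ S) [IsProper f] [Smooth f] [GeometricallyConnected f]
    (hdim : ∀ s : S, topologicalKrullDim ↥(f.fiber s) = 1) (g : ℕ)
    (hgen : ∀ s : S, letI : (f.fiber s).Over (Spec (S.residueField s)) := ⟨f.fiberToSpecResidueField s⟩
      Curv2.genus (S.residueField s) (f.fiber s) = g)

include hdim hgen in
/-- The pluricanonical module on a fibre. -/
theorem fibre_facts (n : ℕ) (hg : 2 ≤ g) (hn : 3 ≤ n) (s : S) :
    PicF.IsInvertible ((Scheme.Modules.pullback (f.fiberι s)).obj (Omega.sheaf f)) ∧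
    RelAmple.IsRelVeryAmplePn (f.fiberToSpecResidueField s)
        (CohIII.fiberMod f (CohB1.tensorPow (Omega.sheaf f) n) s) ∧
      Subsingleton (Coh.HH (f.fiber s) (CohIII.fiberMod f (CohB1.tensorPow (Omega.sheaf f) n) s) 1) := by
  let k := S.residueField s
  letI : (f.fiber s).Over (Spec (CommRingCat.of k)) := ⟨f.fiberToSpecResidueField s⟩
  haveI : IsProper ((f.fiber s) ↘ Spec (CommRingCat.of k)) :=
    MorphismProperty.pullback_snd (P := @IsProper) _ _ ‹_›
  haveI : Smooth ((f.fiber s) ↘ Spec (CommRingCat.of k)) :=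
    MorphismProperty.pullback_snd (P := @Smooth) _ _ ‹_›
  haveI : GeometricallyConnected ((f.fiber s) ↘ Spec (CommRingCat.of k)) :=
    MorphismProperty.pullback_snd (P := @GeometricallyConnected) _ _ ‹_›
  haveI := Groth.CurveBridge.connectedSpace_of_geometrically (f.fiber s) k
  haveI := Groth.CurveBridge.isIntegral_of_smooth k (f.fiber s)
  have h0 := Groth.CurveBridge.h0_of_geometrically k (f.fiber s) (hdim s)
  obtain ⟨hΩ, hd⟩ := Groth.Curves1.RR.omega_deg k (X := f.fiber s) (hdim s) h0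
  have sq : IsPullback (f.fiberι s) ((f.fiber s) ↘ Spec (CommRingCat.of k)) f
      (S.fromSpecResidueField s) := IsPullback.of_hasPullback _ _
  obtain ⟨e⟩ := Groth.OmegaSheaf.nonempty_pullback_iso sq (Groth.OmegaSheaf.isUniversal_dOmega f)
    (Groth.OmegaSheaf.isUniversal_dOmega ((f.fiber s) ↘ Spec (CommRingCat.of k)))
  obtain ⟨en⟩ := nonempty_pullback_omegaPow sq n
  refine ⟨isInvertible_of_iso hΩ e.symm, ?_⟩
  refine Curve.veryAmple_and_h1 k (f.fiber s) (hdim s) _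
    (isInvertible_of_iso (isInvertible_tensorPow hΩ n) en.symm) ?_
  rw [Groth.EulerDeg.deg_congr (k := k) en 1,
    Groth.VarietyBC.CurveDeg.deg_tensorPow k (hdim s).le hΩ n, hd, hgen s]
  have h3 : (3 : ℤ) * (2 * g - 2) ≤ n * (2 * g - 2) :=
    mul_le_mul_of_nonneg_right (by exact_mod_cast hn) (by omega)
  omega

include hdim hgen in
/-- Powers of the relative differentials are invertible. -/
theorem isInvertible_omegaPow (hg : 2 ≤ g) (n : ℕ) :
    PicF.IsInvertible (CohB1.tensorPow (Omega.sheaf f) n) :=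
  isInvertible_tensorPow (isInvertible_of_fibres f (Groth.OmegaSheaf.isFinLocFree_sheaf f)
    fun s => (fibre_facts f hdim g hgen 3 hg le_rfl s).1) n

include hdim hgen in
/-- The pluricanonical module is relatively very ample. -/
theorem isRelVeryAmple_omegaPow (n : ℕ) (hg : 2 ≤ g) (hn : 3 ≤ n) :
    RelProj.IsRelVeryAmple f (CohB1.tensorPow (Omega.sheaf f) n) := by
  have hL := isInvertible_omegaPow f hdim g hgen hg n
  have hd : ∀ y : S, topologicalKrullDim ↥(f.fiber y) ≤ (1 : ℕ) := fun y => (hdim y).le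
  choose U hyU hU using fun y => exists_nhd_pn_of_fibre' f _ hL y
    (fibre_facts f hdim g hgen n hg hn y).2.1
    fun t => DimOne.exists_section_lift f hd _ (Groth.VarietyBC.CurveGG.isCoh_of_isInvertible hL) y
      (fibre_facts f hdim g hgen n hg hn y).2.2 t
  exact Groth.RelVA.isRelVeryAmple_of_cover_pn f hL U
    (eq_top_iff.2 fun y _ => Opens.mem_iSup.2 ⟨y, hyU y⟩) hU

end Fibre

/-- Coherence of powers of the differentials over a Noetherian base. -/
theorem isCoh_omegaPow (f : X ⟶ S) [LocallyOfFiniteType f] [QuasiSeparated f] :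
    ∀ n : ℕ, Coh.IsCoh (CohB1.tensorPow (Omega.sheaf f) n)
  | 0 => Groth.VarietyBC.CurveGG.isCoh_of_isInvertible (Groth.EulerDeg.isInvertible_structureModule X)
  | n + 1 => Groth.EulerDeg.isCoh_tensor (isCoh_omegaPow f n)
      ⟨inferInstance, Groth.OmegaSheaf.isFT_sheaf f⟩

set_option maxHeartbeats 1600000 in
/-- Direct images of powers of the differentials are of finite type when `H¹` of the fibres vanishes. -/
theorem isFT_push_omegaPow (f : X ⟶ S) [IsProper f] [LocallyOfFinitePresentation f]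
    (hd : ∀ y : S, topologicalKrullDim ↥(f.fiber y) ≤ (1 : ℕ)) (n : ℕ)
    (h1 : ∀ y : S, Subsingleton
      (Coh.HH (f.fiber y) (CohIII.fiberMod f (CohB1.tensorPow (Omega.sheaf f) n) y) 1)) :
    CohB1.IsFT ((Scheme.Modules.pushforward f).obj (CohB1.tensorPow (Omega.sheaf f) n)) := by
  classical
  let M := CohB1.tensorPow (Omega.sheaf f) n
  haveI : M.IsQuasicoherent := (isCoh_omegaPow f n).1
  haveI := Groth.QCohMod.isQCoh_pushforward (M := M) f
  refine Groth.QCohMod.isFT_of_affine_cover _ fun y => ?_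
  obtain ⟨V₁, hV₁, hy₁, -⟩ := exists_isAffineOpen_mem_and_subset (X := S) (x := y) (U := ⊤) trivial
  let A : Type u := Γ(S, V₁)
  let XA : Scheme.{u} := (f ⁻¹ᵁ V₁ : X.Opens)
  let q : XA ⟶ Spec (CommRingCat.of A) := preimageToSpec f
  have hq := isPullback_preimageToSpec f hV₁
  haveI : IsProper q := MorphismProperty.of_isPullback hq ‹IsProper f›
  haveI : LocallyOfFinitePresentation q :=
    MorphismProperty.of_isPullback hq ‹LocallyOfFinitePresentation f›
  have hdA : ∀ P, topologicalKrullDim ↥(q.fiber P) ≤ (1 : ℕ) := fun P => by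
    have hP : hV₁.fromSpec.base P ∈ V₁ := hV₁.range_fromSpec.le ⟨P, rfl⟩
    have e : hV₁.primeIdealOf ⟨_, hP⟩ = P := hV₁.fromSpec.isEmbedding.injective
      (hV₁.fromSpec_primeIdealOf ⟨_, hP⟩)
    have h := dim_fiber_preimageToSpec_le f hV₁ _ hP 1 (hd _)
    rwa [e] at h
  obtain ⟨A₀, _, _, φ, X₀, q₀, g, hq₀, hd₀, hsq⟩ :=
    Groth.Limits.exists_noetherian_model_dim_fiber_le q 1 hdA
  let M₀ := CohB1.tensorPow (Omega.sheaf q₀) n
  have hM₀ : Coh.IsCoh M₀ := isCoh_omegaPow q₀ n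
  haveI := hM₀.1
  obtain ⟨e₀⟩ := nonempty_pullback_omegaPow hsq n
  obtain ⟨eA⟩ := nonempty_pullback_omegaPow hq n
  let eM : (Scheme.Modules.pullback g).obj M₀ ≅ M.restrict (f ⁻¹ᵁ V₁).ι :=
    e₀ ≪≫ eA.symm ≪≫ ((Scheme.Modules.restrictFunctorIsoPullback (f ⁻¹ᵁ V₁).ι).app M).symm
  -- the fibre of the model
  let k := S.residueField y
  let w : Spec (CommRingCat.of k) ⟶ Spec (CommRingCat.of A₀) :=
    Spec.map (S.evaluation V₁ y hy₁) ≫ Spec.map (CommRingCat.ofHom φ)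
  let y₀ : Spec (CommRingCat.of A₀) := w (IsLocalRing.closedPoint k)
  let ψ := Scheme.descResidueField (Scheme.stalkClosedPointTo w)
  have hψ : Spec.map ψ ≫ (Spec (CommRingCat.of A₀)).fromSpecResidueField y₀ = w :=
    Scheme.descResidueField_stalkClosedPointTo_fromSpecResidueField k _ w
  let k₀ := (Spec (CommRingCat.of A₀)).residueField y₀
  letI : Algebra k₀ k := ψ.hom.toAlgebra
  letI : (f.fiber y).Over (Spec (CommRingCat.of k)) := ⟨f.fiberToSpecResidueField y⟩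
  letI : (q₀.fiber y₀).Over (Spec (CommRingCat.of k₀)) := ⟨q₀.fiberToSpecResidueField y₀⟩
  let hh := fibreToPreimage f y hy₁ ≫ g
  have hbig : IsPullback hh (f.fiberToSpecResidueField y) q₀ w :=
    (isPullback_fibreToPreimage f hV₁ y hy₁).paste_horiz hsq
  let g' : f.fiber y ⟶ q₀.fiber y₀ := pullback.lift hh
    (f.fiberToSpecResidueField y ≫ Spec.map ψ) (by rw [Category.assoc (f.fiberToSpecResidueField y), hψ]; exact hbig.w)
  have hg1 : g' ≫ q₀.fiberι y₀ = hh := pullback.lift_fst _ _ _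
  have hsqk : IsBC (A := k₀) (A' := k) g' := by
    have h' : IsPullback (g' ≫ q₀.fiberι y₀) (f.fiberToSpecResidueField y) q₀
        (Spec.map ψ ≫ (Spec (CommRingCat.of A₀)).fromSpecResidueField y₀) := by
      rw [hg1, hψ]; exact hbig
    exact h'.of_right (pullback.lift_snd _ _ _) (IsPullback.of_hasPullback _ _)
  let q' : q₀.fiber y₀ ⟶ Spec (CommRingCat.of k₀) := q₀.fiberToSpecResidueField y₀
  haveI : IsProper q' := MorphismProperty.pullback_snd (P := @IsProper) _ _ hq₀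
  haveI : CompactSpace ↥(q₀.fiber y₀) :=
    CohFin.compactSpace_of_proper q'
  haveI : (q₀.fiber y₀).IsSeparated := CohFin.isSeparated_of_proper q'
  haveI := QCohMod.isQCoh_pullback_obj (q₀.fiberι y₀) M₀
  have h10 : Subsingleton (Coh.HH (q₀.fiber y₀) (CohIII.fiberMod q₀ M₀ y₀) 1) := by
    refine subsingleton_HH_of_field_ext (k := k₀) (k' := k) _ 1 (g := g') hsqk ?_
    let ι₁ : (Scheme.Modules.pullback g').obj (CohIII.fiberMod q₀ M₀ y₀) ≅
        CohIII.fiberMod f M y :=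
      (Scheme.Modules.pullbackComp g' (q₀.fiberι y₀)).app M₀ ≪≫
        (Scheme.Modules.pullbackCongr hg1).app M₀ ≪≫
        ((Scheme.Modules.pullbackComp (fibreToPreimage f y hy₁) g).app M₀).symm ≪≫
        (Scheme.Modules.pullback (fibreToPreimage f y hy₁)).mapIso eM ≪≫
        fibreModIso f M y hy₁
    exact @Equiv.subsingleton _ _ (haIsoEquiv (f.fiberToSpecResidueField y) ι₁ 1).toEquiv (h1 y)
  obtain ⟨V₀, hV₀, hy₀, hH₀⟩ := DimOne.exists_nhd_subsingleton q₀ hd₀ M₀ hM₀ y₀ h10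
  -- an affine neighbourhood mapping into it
  let W : S.Opens := hV₁.fromSpec ''ᵁ (Spec.map (CommRingCat.ofHom φ) ⁻¹ᵁ V₀)
  have hyW : y ∈ W := by
    refine ⟨hV₁.primeIdealOf ⟨y, hy₁⟩, ?_, hV₁.fromSpec_primeIdealOf _⟩
    have hpt : hV₁.primeIdealOf ⟨y, hy₁⟩ =
        Spec.map (S.evaluation V₁ y hy₁) (IsLocalRing.closedPoint k) := by
      refine hV₁.fromSpec.isEmbedding.injective ((hV₁.fromSpec_primeIdealOf _).trans ?_)
      rw [← Scheme.Hom.comp_apply, SpecMap_evaluation_fromSpec hV₁ y hy₁,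
        Scheme.fromSpecResidueField_apply]
    show Spec.map (CommRingCat.ofHom φ) (hV₁.primeIdealOf ⟨y, hy₁⟩) ∈ V₀
    rw [hpt, ← Scheme.Hom.comp_apply]
    exact hy₀
  obtain ⟨_, ⟨(V : S.Opens), hV, rfl⟩, hy, hVW⟩ :=
    S.isBasis_affineOpens.exists_subset_of_mem_open hyW W.2
  have hle : V ≤ V₁ := fun z hz => by
    obtain ⟨z', -, rfl⟩ := hVW hz
    exact hV₁.range_fromSpec.le ⟨z', rfl⟩
  refine ⟨V, hV, hy, ?_⟩
  let B : Type u := Γ(S, V)
  let b : Spec (CommRingCat.of B) ⟶ Spec (CommRingCat.of A) :=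
    Spec.map (S.presheaf.map (homOfLE hle).op)
  have hb : b ≫ hV₁.fromSpec = hV.fromSpec := hV₁.map_fromSpec hV (homOfLE hle).op
  let XB : Scheme.{u} := (f ⁻¹ᵁ V : X.Opens)
  letI : XB.Over (Spec (CommRingCat.of B)) := ⟨preimageToSpec f⟩
  let ρ : XB ⟶ XA := X.homOfLE (f.preimage_mono hle)
  have hρ : IsPullback ρ (preimageToSpec f (V := V)) q b := by
    have h : IsPullback (ρ ≫ (f ⁻¹ᵁ V₁).ι) (preimageToSpec f (V := V)) f (b ≫ hV₁.fromSpec) := by
      rw [Scheme.homOfLE_ι, hb]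
      exact isPullback_preimageToSpec f hV
    refine h.of_right ?_ hq
    rw [← cancel_mono hV₁.fromSpec, Category.assoc, Category.assoc, ← hq.w, ← Category.assoc]
    exact h.w
  let A₁ : Type u := Γ(Spec (CommRingCat.of A₀), V₀)
  let e₁ : Spec (CommRingCat.of B) ⟶ Spec (CommRingCat.of A₁) :=
    IsOpenImmersion.lift hV₀.fromSpec (b ≫ Spec.map (CommRingCat.ofHom φ)) (by
      rw [hV₀.range_fromSpec]
      rintro _ ⟨P, rfl⟩
      have hPV : hV₁.fromSpec (b P) ∈ V := by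
        rw [← Scheme.Hom.comp_apply, hb]
        exact hV.range_fromSpec.le ⟨P, rfl⟩
      obtain ⟨Q, hQ, hQP⟩ := hVW hPV
      rw [Scheme.Hom.comp_apply, ← hV₁.fromSpec.isEmbedding.injective hQP]
      exact hQ)
  have he₁ : e₁ ≫ hV₀.fromSpec = b ≫ Spec.map (CommRingCat.ofHom φ) :=
    IsOpenImmersion.lift_fac _ _ _
  letI : Algebra A₁ B := (Spec.preimage e₁).hom.toAlgebra
  let X₁ : Scheme.{u} := (q₀ ⁻¹ᵁ V₀ : X₀.Opens)
  letI : X₁.Over (Spec (CommRingCat.of A₁)) := ⟨preimageToSpec q₀⟩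
  haveI hp₁ : IsProper (X₁ ↘ Spec (CommRingCat.of A₁)) :=
    MorphismProperty.of_isPullback (isPullback_preimageToSpec q₀ hV₀) hq₀
  haveI : IsNoetherianRing A₁ := IsLocallyNoetherian.component_noetherian ⟨V₀, hV₀⟩
  haveI : CompactSpace ↥X₁ := CohFin.compactSpace_of_proper (X₁ ↘ Spec (CommRingCat.of A₁))
  haveI : X₁.IsSeparated := CohFin.isSeparated_of_proper (X₁ ↘ Spec (CommRingCat.of A₁))
  have hd₁ : ∀ P, topologicalKrullDim ↥((X₁ ↘ Spec (CommRingCat.of A₁)).fiber P) ≤ (1 : ℕ) :=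
    fun P => by
      have hP : hV₀.fromSpec.base P ∈ V₀ := hV₀.range_fromSpec.le ⟨P, rfl⟩
      have e : hV₀.primeIdealOf ⟨_, hP⟩ = P := hV₀.fromSpec.isEmbedding.injective
        (hV₀.fromSpec_primeIdealOf ⟨_, hP⟩)
      have h := dim_fiber_preimageToSpec_le q₀ hV₀ _ hP 1 (hd₀ _)
      rwa [e] at h
  have hbig₁ : IsPullback (ρ ≫ g) (preimageToSpec f (V := V)) q₀ (e₁ ≫ hV₀.fromSpec) := by
    rw [he₁]; exact hρ.paste_horiz hsq
  let h₁ : XB ⟶ X₁ := IsOpenImmersion.lift (q₀ ⁻¹ᵁ V₀).ι (ρ ≫ g) (by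
    rw [Scheme.Opens.range_ι]
    rintro _ ⟨z, rfl⟩
    have := congr($(hbig₁.w) z)
    rw [Scheme.Hom.comp_apply, Scheme.Hom.comp_apply (preimageToSpec f), Scheme.Hom.comp_apply e₁]
      at this
    show q₀ ((ρ ≫ g) z) ∈ V₀
    rw [this]
    exact hV₀.range_fromSpec.le ⟨_, rfl⟩)
  have hh₁ : h₁ ≫ (q₀ ⁻¹ᵁ V₀).ι = ρ ≫ g := IsOpenImmersion.lift_fac _ _ _
  have hsq₁ : IsBC (A := A₁) (A' := B) h₁ := by
    have h : IsPullback (h₁ ≫ (q₀ ⁻¹ᵁ V₀).ι) (preimageToSpec f (V := V)) q₀ (e₁ ≫ hV₀.fromSpec) := by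
      rw [hh₁]; exact hbig₁
    show IsPullback h₁ (preimageToSpec f (V := V)) (preimageToSpec q₀ (V := V₀))
      (Spec.map (CommRingCat.ofHom (algebraMap A₁ B)))
    rw [show Spec.map (CommRingCat.ofHom (algebraMap A₁ B)) = e₁ from Spec.map_preimage e₁]
    refine h.of_right ?_ (isPullback_preimageToSpec q₀ hV₀)
    rw [← cancel_mono hV₀.fromSpec, Category.assoc, Category.assoc,
      ← (isPullback_preimageToSpec q₀ hV₀).w, ← Category.assoc]
    exact h.w
  let G₁ := M₀.restrict (q₀ ⁻¹ᵁ V₀).ι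
  have hG₁ : Coh.IsCoh G₁ := DimOne.isCoh_restrict' hM₀ _
  haveI := hG₁.1
  have hfin := DimOne.finite_HH_zero_pullback hsq₁ G₁
    (fun K hK => subsingleton_HH_of_dim_fiber_le (A := A₁) 1 hd₁ K (0 + 2) (by omega)) hH₀
    (CohFin.hFin_of_proper CohFin.projFinite 0 X₁ (X₁ ↘ Spec (CommRingCat.of A₁)) G₁ hG₁)
  let eB : (Scheme.Modules.pullback h₁).obj G₁ ≅ M.restrict (f ⁻¹ᵁ V).ι :=
    (Scheme.Modules.pullback h₁).mapIso
        ((Scheme.Modules.restrictFunctorIsoPullback (q₀ ⁻¹ᵁ V₀).ι).app M₀) ≪≫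
      (Scheme.Modules.pullbackComp h₁ (q₀ ⁻¹ᵁ V₀).ι).app M₀ ≪≫
      (Scheme.Modules.pullbackCongr hh₁).app M₀ ≪≫
      ((Scheme.Modules.pullbackComp ρ g).app M₀).symm ≪≫
      (Scheme.Modules.pullback ρ).mapIso
        (eM ≪≫ (Scheme.Modules.restrictFunctorIsoPullback (f ⁻¹ᵁ V₁).ι).app M) ≪≫
      (Scheme.Modules.pullbackComp ρ (f ⁻¹ᵁ V₁).ι).app M ≪≫
      (Scheme.Modules.pullbackCongr (X.homOfLE_ι _)).app M ≪≫
      ((Scheme.Modules.restrictFunctorIsoPullback (f ⁻¹ᵁ V).ι).app M).symm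
  haveI hfin' : Module.Finite B (CohFin.HA (preimageToSpec f (V := V)) (M.restrict (f ⁻¹ᵁ V).ι) 0) :=
    haveI : Module.Finite B
        (CohFin.HA (preimageToSpec f (V := V)) ((Scheme.Modules.pullback h₁).obj G₁) 0) := hfin
    Module.Finite.equiv (haIsoEquiv (preimageToSpec f (V := V)) eB 0)
  obtain ⟨l⟩ := Groth.CohBase.exists_Rpush_linEquiv (M := M) f 0 hV
  let l' := l.symm.trans (Groth.CohBase.isoSecEquiv ((Coh.push f).rightDerivedZeroIsoSelf.app M) V)
  exact @Module.Finite.equiv _ _ _ _ _ _ _ _ hfin' l'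

end Groth.FibreVA.CurveFamily
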