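import Groth.Agent.Curves1.RR.EtaleGenusZero
import Groth.Agent.ModelsGraphs.ExcCriterion
import Groth.Agent.OmegaSheaf.EtalePull
import Groth.Agent.VarietyBC.GlobalField
import Groth.Agent.VarietyBC.CurveDeg
import Groth.Agent.AlgGrp1.SmoothReduced
import Groth.Agent.NeronArea.Mapping
import Groth.Agent.CurveBridge.SmoothCurve
import Groth.Agent.CohC3.ProperHelpers
import Groth.Agent.PicAux.Powers
import Groth.Agent.Ega2Proj.RelAmple

/-!
# Ampleness of the differentials of an irreducible smooth curve of arithmetic genus at least two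
-/

universe u

open CategoryTheory CategoryTheory.Limits AlgebraicGeometry TopologicalSpace Opposite
open scoped TensorProduct

set_option backward.isDefEq.respectTransparency.types false
set_option linter.style.haveILetI false

noncomputable section

namespace Groth.FibreVA.OmegaAmple

open Groth.PicAux

variable (k : Type u) [Field k] (C : Scheme.{u}) [C.Over (Spec (CommRingCat.of k))]
  [IsProper (C ↘ Spec (CommRingCat.of k))] [Smooth (C ↘ Spec (CommRingCat.of k))]

/-- The field of global functions of an integral smooth proper scheme is separable. -/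
theorem isSeparable_global [IsIntegral C] :
    letI := isField_of_universallyClosed k (C ↘ Spec (CommRingCat.of k)) |>.toField
    letI : Algebra k Γ(C, ⊤) :=
      ((Scheme.ΓSpecIso (CommRingCat.of k)).inv ≫ (C ↘ Spec (CommRingCat.of k)).appTop).hom.toAlgebra
    Module.Finite k Γ(C, ⊤) ∧ Algebra.IsSeparable k Γ(C, ⊤) := by
  let p := C ↘ Spec (CommRingCat.of k)
  letI := (isField_of_universallyClosed k p).toField
  letI : Algebra k Γ(C, ⊤) :=
    ((Scheme.ΓSpecIso (CommRingCat.of k)).inv ≫ p.appTop).hom.toAlgebra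
  haveI : CompactSpace C := QuasiCompact.compactSpace_of_compactSpace p
  haveI : QuasiSeparatedSpace C := quasiSeparatedSpace_of_quasiSeparated p
  have hfin : Module.Finite k Γ(C, ⊤) := RingHom.finite_algebraMap.1 <|
    (finite_appTop_of_universallyClosed k p).comp
      (RingHom.Finite.of_surjective _
        (ConcreteCategory.bijective_of_isIso (Scheme.ΓSpecIso (CommRingCat.of k)).inv).2)
  refine ⟨hfin, ?_⟩
  let E := AlgebraicClosure k
  let s : Spec (CommRingCat.of E) ⟶ Spec (CommRingCat.of k) :=
    Spec.map (CommRingCat.ofHom (algebraMap k E))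
  haveI : Smooth (pullback.snd p s) := MorphismProperty.pullback_snd (P := @Smooth) _ _ ‹_›
  haveI : IsReduced (pullback p s) := Groth.AlgGrp1.isReduced_of_smooth (pullback.snd p s)
  obtain ⟨e⟩ := Groth.VarietyBC.GlobalField.exists_ringEquiv (E := E) p rfl
    (IsPullback.of_hasPullback p s)
  haveI : _root_.IsReduced (E ⊗[k] Γ(C, ⊤)) := isReduced_of_injective e.toRingHom e.injective
  exact Groth.VarietyBC.GlobalField.isSeparable_of_isReduced (E := E)

include k in
/-- The criterion over a field extension carrying all the global functions. -/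
theorem omega_ample_over [IsIntegral C] (hdim : topologicalKrullDim C = 1)
    (hg : (2 : ℤ) ≤ 1 - (Module.finrank k (Coh.HH C (Coh.structureModule C) 0) : ℤ) +
      Module.finrank k (Coh.HH C (Coh.structureModule C) 1))
    (L : Type u) [Field L] (q : C ⟶ Spec (CommRingCat.of L))
    (g : Spec (CommRingCat.of L) ⟶ Spec (CommRingCat.of k)) [Etale g]
    (hqg : q ≫ g = C ↘ Spec (CommRingCat.of k)) (hb : Function.Bijective q.appTop) :
    PicF.IsInvertible (Omega.sheaf (C ↘ Spec (CommRingCat.of k))) ∧
      CohB1.IsAmple (Omega.sheaf (C ↘ Spec (CommRingCat.of k))) := by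
  let p := C ↘ Spec (CommRingCat.of k)
  letI : C.Over (Spec (CommRingCat.of L)) := ⟨q⟩
  haveI : Smooth (q ≫ g) := by rw [hqg]; infer_instance
  haveI : IsProper (q ≫ g) := by rw [hqg]; infer_instance
  haveI : Smooth (C ↘ Spec (CommRingCat.of L)) := Groth.NeronArea.smooth_of_comp_etale q g
  haveI : IsProper q := IsProper.of_comp q g
  haveI : IsProper (C ↘ Spec (CommRingCat.of L)) := ‹IsProper q›
  have h0L : Module.finrank L (Coh.HH C (Coh.structureModule C) 0) = 1 :=
    Groth.ModelsGraphs.ExcCriterion.h0_eq_one_of_bijective L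
      (hb.comp (ConcreteCategory.bijective_of_isIso (Scheme.ΓSpecIso (CommRingCat.of L)).inv))
  obtain ⟨hΩ, hd⟩ := Groth.Curves1.RR.omega_deg L (X := C) hdim h0L
  have h1 := Groth.ModelsGraphs.ExcCriterion.finrank_change k L h0L (Coh.structureModule C) 1
  have hgen : 2 ≤ Curv2.genus L C := by
    change 2 ≤ Module.finrank L (Coh.HH C (Coh.structureModule C) 1)
    rw [h1] at hg
    push_cast at hg
    by_contra hlt
    have hle : (Module.finrank L (Coh.HH C (Coh.structureModule C) 1) : ℤ) ≤ 1 := by omega
    nlinarith [mul_le_mul_of_nonneg_left hle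
      (Int.natCast_nonneg (Module.finrank k (Coh.HH C (Coh.structureModule C) 0)))]
  have hamp := (Groth.VarietyBC.CurveDeg.isAmple_iff_deg_pos L hdim hΩ).2 (by rw [hd]; omega)
  obtain ⟨e⟩ := Groth.OmegaSheaf.nonempty_pullback_iso_of_etale (h := 𝟙 C) (g := g)
    (f := p) (f' := q) (by rw [Category.id_comp]; exact hqg.symm)
    (Groth.OmegaSheaf.isUniversal_dOmega p) (Groth.OmegaSheaf.isUniversal_dOmega q)
  let e' : Omega.sheaf p ≅ Omega.sheaf q := ((Scheme.Modules.pullbackId C).app _).symm ≪≫ e
  exact ⟨isInvertible_of_iso hΩ e'.symm, Groth.Ega2Proj.isAmple_of_iso e'.symm hamp⟩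

set_option maxHeartbeats 1000000 in
include k in
/-- The differentials of an irreducible smooth proper curve of arithmetic genus at least two are
invertible and ample. -/
theorem omega_ample [IrreducibleSpace C] (hdim : topologicalKrullDim C = 1)
    (hg : (2 : ℤ) ≤ 1 - (Module.finrank k (Coh.HH C (Coh.structureModule C) 0) : ℤ) +
      Module.finrank k (Coh.HH C (Coh.structureModule C) 1)) :
    PicF.IsInvertible (Omega.sheaf (C ↘ Spec (CommRingCat.of k))) ∧
      CohB1.IsAmple (Omega.sheaf (C ↘ Spec (CommRingCat.of k))) := by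
  let p := C ↘ Spec (CommRingCat.of k)
  haveI := Groth.CohC3.isNoetherian_of_proper k C
  haveI : ConnectedSpace C := inferInstance
  haveI := Groth.CurveBridge.isIntegral_of_smooth k C
  let L : Type u := Γ(C, ⊤)
  letI : Field L := (isField_of_universallyClosed k p).toField
  let φ : CommRingCat.of k ⟶ Γ(C, ⊤) := (Scheme.ΓSpecIso (CommRingCat.of k)).inv ≫ p.appTop
  letI : Algebra k L := φ.hom.toAlgebra
  obtain ⟨hfin, hsep⟩ := isSeparable_global k C
  haveI : Module.Finite k L := hfin
  haveI : Algebra.IsSeparable k L := hsep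
  haveI : Algebra.FormallyEtale k L := Algebra.FormallyEtale.of_isSeparable k L
  haveI : Algebra.Etale k L := ⟨inferInstance,
    Algebra.FinitePresentation.of_finiteType.1 inferInstance⟩
  let q : C ⟶ Spec (CommRingCat.of L) := C.toSpecΓ
  let g : Spec (CommRingCat.of L) ⟶ Spec (CommRingCat.of k) :=
    Spec.map (CommRingCat.ofHom (algebraMap k L))
  have hqg : q ≫ g = p := by
    show C.toSpecΓ ≫ Spec.map φ = p
    rw [Spec.map_comp, ← Scheme.toSpecΓ_naturality_assoc, toSpecΓ_SpecMap_ΓSpecIso_inv,
      Category.comp_id]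
  haveI : Etale g := (HasRingHomProperty.Spec_iff (P := @Etale)).2 (by
      rw [CommRingCat.hom_ofHom]; exact RingHom.etale_algebraMap.2 inferInstance)
  haveI : IsIso C.toSpecΓ.appTop := by rw [Scheme.toSpecΓ_appTop]; infer_instance
  have hb₁ : Function.Bijective C.toSpecΓ.appTop :=
    ConcreteCategory.bijective_of_isIso C.toSpecΓ.appTop
  exact omega_ample_over k C hdim hg L q g hqg hb₁

end Groth.FibreVA.OmegaAmple
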