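import Groth.Agent.Limits.BC0.Vanish
import Groth.Agent.EulerDeg.LineBundle
import Groth.Agent.Curves1.RR.RankOne
import Groth.Agent.LocFree.Basic

/-!
# The rank of a direct image with vanishing first cohomology on the fibres
-/

universe u

open CategoryTheory Limits AlgebraicGeometry TopologicalSpace Opposite

set_option backward.isDefEq.respectTransparency.types false

noncomputable section

namespace Groth.FibreVA.PushRank

open Groth.PicAux Groth.EulerDeg

attribute [local instance] secModule

/-- Over the spectrum of a field, a basis of a direct image counts global sections. -/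
theorem finrank_of_basis (k : Type u) [Field k] {X : Scheme.{u}}
    [X.Over (Spec (CommRingCat.of k))] (M : X.Modules) {n : ℕ}
    {b : Fin n → Γ((Scheme.Modules.pushforward (X ↘ Spec (CommRingCat.of k))).obj M, ⊤)}
    (hb : Basis' ((Scheme.Modules.pushforward (X ↘ Spec (CommRingCat.of k))).obj M) ⊤ b) :
    Module.finrank k (Coh.HH X M 0) = n := by
  let q := X ↘ Spec (CommRingCat.of k)
  let ε := (Scheme.ΓSpecIso (CommRingCat.of k)).symm.commRingCatIsoToRingEquiv
  let b' : Fin n → Γ(M, (⊤ : X.Opens)) := fun i => b i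
  have hs : ∀ (a : k) (i : Fin n), ε a • b i = (show Γ((Scheme.Modules.pushforward q).obj M, ⊤) from
      a • b' i) := fun a i => by
    show (show Γ(X, ⊤) from q.app ⊤ (ε a)) • b' i = _
    rw [smul_sec]
    refine congrArg (· • b' i) ?_
    exact (resX_self _ (Coh.toGlobal q a)).symm
  let L : (Fin n → k) →ₗ[k] Γ(M, (⊤ : X.Opens)) := Fintype.linearCombination k b'
  have hL : Function.Bijective L := by
    have h : ∀ c : Fin n → k, (show Γ((Scheme.Modules.pushforward q).obj M, ⊤) from L c) =
        ∑ i, ε (c i) • Groth.PicAux.res _ (le_refl (⊤ : (Spec (CommRingCat.of k)).Opens)) (b i) := by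
      intro c
      refine (Fintype.linearCombination_apply k b' c).trans (Finset.sum_congr rfl fun i _ => ?_)
      rw [res_self]
      exact (hs _ _).symm
    have he : (L : (Fin n → k) → Γ(M, (⊤ : X.Opens))) =
        (fun r : Fin n → Γ(Spec (CommRingCat.of k), ⊤) => (show Γ(M, (⊤ : X.Opens)) from
          ∑ i, r i • Groth.PicAux.res _ (le_refl (⊤ : (Spec (CommRingCat.of k)).Opens)) (b i))) ∘
          fun c i => ε (c i) := funext h
    rw [he]
    exact (hb ⊤ le_rfl).comp (Equiv.piCongrRight fun _ => ε.toEquiv).bijective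
  rw [(h0Equiv k M).finrank_eq, ← (LinearEquiv.ofBijective L hL).finrank_eq]
  simp

variable {X S : Scheme.{u}} {f : X ⟶ S} [IsProper f] [LocallyOfFinitePresentation f]
  {F : X.Modules} [F.IsQuasicoherent]

/-- Direct images with `h¹ = 0` on the fibres are locally free of the rank `h⁰`. -/
theorem isFinLocFreeOfRank_push (hF : CohB1.IsFP F) (hfl : FlatMod.IsFlatOver f F) (r : ℕ)
    (h1 : ∀ s, Subsingleton (CohIII.fiberH f F s 1)) (h0 : ∀ s, CohIII.fiberRank f F 0 s = r) :
    FlatMod.IsFinLocFreeOfRank r ((Scheme.Modules.pushforward f).obj F) := by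
  rw [Groth.LocFree.isFinLocFreeOfRank_iff]
  intro s
  have hgood := fun t => Groth.Limits.BC0.goodAt_of_vanish hF hfl t (h1 t)
  obtain ⟨W, n, b, -, hsW, hb⟩ := Groth.Limits.BC0.exists_basis_of_goodAt (hgood s)
    (show s ∈ (⊤ : S.Opens) from trivial)
  suffices hn : n = r by subst hn; exact ⟨W, b, hsW, hb⟩
  let g := S.fromSpecResidueField s
  letI : (f.fiber s).Over (Spec (CommRingCat.of (S.residueField s))) := ⟨f.fiberToSpecResidueField s⟩
  have hsq : IsPullback (f.fiberι s) (f.fiberToSpecResidueField s) f g := IsPullback.of_hasPullback _ _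
  haveI := Groth.Limits.BC0.isIso_bc0_of_good hsq fun z => hgood (g z)
  let φ := asIso (CohBC.bc0 f g (f.fiberToSpecResidueField s) (f.fiberι s) hsq.w F)
  have htop : g ⁻¹ᵁ W = ⊤ := eq_top_iff.2 fun z _ => by
    change g z ∈ W
    rw [Scheme.fromSpecResidueField_apply]
    exact hsW
  have hb' := (hb.pull g).map φ.hom
  have hb'' := hb'.res' htop.ge
  refine Eq.trans ?_ (h0 s)
  exact (finrank_of_basis (S.residueField s) (CohIII.fiberMod f F s) hb'').symm

end Groth.FibreVA.PushRank
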