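import Groth.Agent.FibreVA.CurveFamily
import Groth.Agent.FibreVA.PushRank
import Groth.Agent.Curves1.RR.Numerics
import Groth.Agent.PropsBasic.LocFree
import Groth.Agent.QCohMod.Stalk
import Groth.Agent.CohC3.ProperHelpers

/-!
# Cohomology of pluricanonical modules on families of curves
-/

universe u

open CategoryTheory CategoryTheory.Limits AlgebraicGeometry TopologicalSpace Opposite

set_option backward.isDefEq.respectTransparency.types false

noncomputable section

namespace Groth.FibreVA.CurveCohom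

open Groth.PicAux Groth.CohBase

variable {X S : Scheme.{u}} (f : X ⟶ S) [IsProper f] [Smooth f] [GeometricallyConnected f]
    (hdim : ∀ s : S, topologicalKrullDim ↥(f.fiber s) = 1) (g : ℕ)
    (hgen : ∀ s : S, letI : (f.fiber s).Over (Spec (S.residueField s)) := ⟨f.fiberToSpecResidueField s⟩
      Curv2.genus (S.residueField s) (f.fiber s) = g)

include hdim hgen in
/-- Cohomology of a pluricanonical module on the fibres. -/
theorem fibre_data (n : ℕ) (hg : 2 ≤ g) (hn : 2 ≤ n) (s : S) :
    Subsingleton (CohIII.fiberH f (CohB1.tensorPow (Omega.sheaf f) n) s 1) ∧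
      CohIII.fiberRank f (CohB1.tensorPow (Omega.sheaf f) n) 0 s = (2 * n - 1) * (g - 1) ∧
      ∀ i, 2 ≤ i → Subsingleton (CohIII.fiberH f (CohB1.tensorPow (Omega.sheaf f) n) s i) := by
  let k := S.residueField s
  letI : (f.fiber s).Over (Spec (CommRingCat.of k)) := ⟨f.fiberToSpecResidueField s⟩
  haveI : IsProper ((f.fiber s) ↘ Spec (CommRingCat.of k)) :=
    MorphismProperty.pullback_snd (P := @IsProper) _ _ ‹_›
  haveI : Smooth ((f.fiber s) ↘ Spec (CommRingCat.of k)) :=
    MorphismProperty.pullback_snd (P := @Smooth) _ _ ‹_›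
  haveI : GeometricallyConnected ((f.fiber s) ↘ Spec (CommRingCat.of k)) :=
    MorphismProperty.pullback_snd (P := @GeometricallyConnected) _ _ ‹_›
  haveI := Groth.CurveBridge.connectedSpace_of_geometrically (f.fiber s) k
  haveI := Groth.CurveBridge.isIntegral_of_smooth k (f.fiber s)
  haveI := Groth.CohC3.isNoetherian_of_proper k (f.fiber s)
  have h0 := Groth.CurveBridge.h0_of_geometrically k (f.fiber s) (hdim s)
  obtain ⟨hΩ, hd⟩ := Groth.Curves1.RR.omega_deg k (X := f.fiber s) (hdim s) h0
  have sq : IsPullback (f.fiberι s) ((f.fiber s) ↘ Spec (CommRingCat.of k)) f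
      (S.fromSpecResidueField s) := IsPullback.of_hasPullback _ _
  obtain ⟨en⟩ := CurveFamily.nonempty_pullback_omegaPow sq n
  have hL : PicF.IsInvertible (CohIII.fiberMod f (CohB1.tensorPow (Omega.sheaf f) n) s) :=
    isInvertible_of_iso (isInvertible_tensorPow hΩ n) en.symm
  have hdeg : Curv2.deg k (f.fiber s) (CohIII.fiberMod f (CohB1.tensorPow (Omega.sheaf f) n) s) 1 =
      n * (2 * (g : ℤ) - 2) := by
    refine (Groth.EulerDeg.deg_congr (k := k) en 1).trans ?_
    rw [Groth.VarietyBC.CurveDeg.deg_tensorPow k (hdim s).le hΩ n, hd, hgen s]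
  have hg' : Curv2.genus k (f.fiber s) = g := hgen s
  have h1 : Subsingleton (Coh.HH (f.fiber s) (CohIII.fiberMod f (CohB1.tensorPow (Omega.sheaf f) n) s) 1) := by
    refine Groth.Curves1.RR.subsingleton_h1_of_deg_ge k (hdim s).le h0 hL ?_
    rw [hdeg, hg']
    nlinarith [show (2 : ℤ) ≤ n by exact_mod_cast hn, show (2 : ℤ) ≤ g by exact_mod_cast hg]
  refine ⟨h1, ?_, fun i hi => Groth.EulerDeg.subsingleton_HH_of_dim_le_one _ (hdim s).le _ i hi⟩
  have he := Groth.Curves1.RR.euler_eq k (hdim s).le h0 (L := CohIII.fiberMod f (CohB1.tensorPow (Omega.sheaf f) n) s)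
  rw [Groth.EulerDeg.euler_eq_h0_sub_h1 k (f.fiber s) (hdim s).le, hdeg, hg'] at he
  haveI := h1
  simp only [Module.finrank_zero_of_subsingleton] at he
  have key : (((2 * n - 1) * (g - 1) : ℕ) : ℤ) = n * (2 * (g : ℤ) - 2) + 1 - g := by
    rw [Nat.cast_mul, Nat.cast_sub (by omega), Nat.cast_sub (by omega)]
    push_cast
    ring
  push_cast at he
  rw [sub_zero] at he
  exact Int.ofNat_inj.1 (he.trans key.symm)

/-- A module with zero restriction to the whole space is zero. -/
theorem isZero_of_restrict_top {Y : Scheme.{u}} {M : Y.Modules} [M.IsQuasicoherent]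
    (h : IsZero (M.restrict (⊤ : Y.Opens).ι)) : IsZero M :=
  (Groth.QCohMod.isZero_iff_stalk M).2 fun x =>
    (Groth.QCohMod.isZero_restrict_iff_stalk M ⊤).1 h x trivial

include hdim hgen in
/-- Direct images of pluricanonical modules. -/
theorem push_omegaPow [HasInjectiveResolutions X.Modules] (n : ℕ) (hg : 2 ≤ g) (hn : 2 ≤ n) :
    FlatMod.IsFinLocFreeOfRank ((2 * n - 1) * (g - 1))
        ((Coh.push f).obj (CohB1.tensorPow (Omega.sheaf f) n)) ∧
      ∀ i : ℕ, 1 ≤ i → IsZero ((Coh.Rpush f i).obj (CohB1.tensorPow (Omega.sheaf f) n)) := by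
  have hL := CurveFamily.isInvertible_omegaPow f hdim g hgen hg n
  haveI := isQCoh_of_isInvertible hL
  have hfl := Groth.CohBase.isFlatOver_of_isInvertible f hL
  have hF := Groth.PropsBasic.LocFree.isFP_of_isFinLocFree _
    (Groth.LocFree.isFinLocFree_of_rank (Groth.LocFree.isInvertible_iff_ofRank_one.1 hL))
  refine ⟨PushRank.isFinLocFreeOfRank_push hF hfl _ (fun s => (fibre_data f hdim g hgen n hg hn s).1)
    fun s => (fibre_data f hdim g hgen n hg hn s).2.1, fun i hi => ?_⟩
  haveI := Groth.CohBase.isQCoh_Rpush f i (M := CohB1.tensorPow (Omega.sheaf f) n)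
  refine isZero_of_restrict_top (Groth.Limits.BC0.isZero_restrict_Rpush hF hfl i ⊤ fun s _ => ?_)
  rcases Nat.eq_or_lt_of_le hi with rfl | hi'
  · exact (fibre_data f hdim g hgen n hg hn s).1
  · exact (fibre_data f hdim g hgen n hg hn s).2.2 i hi'

end Groth.FibreVA.CurveCohom
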