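import Groth.Agent.RelVA.PnData

/-!
# Immersions into projective space detected by chart functions
-/

universe u

open CategoryTheory CategoryTheory.Limits AlgebraicGeometry Opposite TopologicalSpace

set_option backward.isDefEq.respectTransparency.types false

noncomputable section

namespace Groth.FibreVA

open Groth.RelVA

variable {X Y : Scheme.{u}} {m : ℕ}

/-- The standard chart `T_j ≠ 0`. -/
abbrev chartOpen (m : ℕ) (j : Fin (m + 1)) : (CohB1.ProjSpace m (ULift.{u} ℤ)).Opens :=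
  Proj.basicOpen (CohB1.polyGrading m (ULift.{u} ℤ)) (MvPolynomial.X j)

/-- The function `T_l / T_j` on the standard chart. -/
def coordFun (j l : Fin (m + 1)) : Γ(CohB1.ProjSpace m (ULift.{u} ℤ), chartOpen m j) :=
  Proj.awayToSection _ _
    (HomogeneousLocalization.Away.mk (CohB1.polyGrading m (ULift.{u} ℤ)) (Groth.Chow.ToPn.X_mem j) 1
      (MvPolynomial.X l) (by rw [one_smul]; exact Groth.Chow.ToPn.X_mem l))

/-- The functions on `r ⁻¹ D_j` made from the base and the coordinate functions. -/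
def chartRing (q : X ⟶ Y) (r : X ⟶ CohB1.ProjSpace m (ULift.{u} ℤ)) (j : Fin (m + 1)) :
    Subring Γ(X, r ⁻¹ᵁ chartOpen m j) :=
  Subring.closure (Set.range (q.appLE ⊤ (r ⁻¹ᵁ chartOpen m j) le_top).hom ∪
    Set.range fun l => r.appLE (chartOpen m j) (r ⁻¹ᵁ chartOpen m j) le_rfl (coordFun j l))

/-- A morphism to projective space over an affine base is an immersion if the chart functions
immerse the chart preimages. -/
theorem isImmersion_lift_of_chartRing [IsAffine Y] (q : X ⟶ Y)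
    (r : X ⟶ CohB1.ProjSpace m (ULift.{u} ℤ)) (i : X ⟶ CohB1.ProjSpaceOver m Y)
    (hi1 : i ≫ Groth.Chow.PEmb.prZ m Y = r) (hi2 : i ≫ CohB1.ProjSpaceOver.toBase m Y = q)
    (h : ∀ x, ∃ j, x ∈ r ⁻¹ᵁ chartOpen m j ∧ Imm (r ⁻¹ᵁ chartOpen m j) (chartRing q r j)) :
    IsImmersion i := by
  choose idx hidx hI using h
  let V : Fin (m + 1) → (CohB1.ProjSpaceOver m Y).Opens := fun j =>
    Groth.Chow.PEmb.prZ m Y ⁻¹ᵁ chartOpen m j ⊓ CohB1.ProjSpaceOver.toBase m Y ⁻¹ᵁ ⊤
  have hpre : ∀ j, i ⁻¹ᵁ V j = r ⁻¹ᵁ chartOpen m j := fun j => by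
    rw [Scheme.Hom.preimage_inf, ← Scheme.Hom.comp_preimage, ← Scheme.Hom.comp_preimage, hi1, hi2]
    exact inf_eq_left.2 le_top
  have hV : ∀ x, IsImmersion (i ∣_ V (idx x)) := fun x => by
    generalize hj : idx x = j
    have hIj : Imm (r ⁻¹ᵁ chartOpen m j) (chartRing q r j) := hj ▸ hI x
    have hVa : IsAffineOpen (V j) := Groth.Chow.isAffineOpen_prZ_inf m j (isAffineOpen_top Y)
    have : IsAffine (V j : Scheme.{u}) := hVa
    obtain ⟨K, hK, k, hk, hkT⟩ := hIj
    let G := r ⁻¹ᵁ chartOpen m j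
    have hle : G ≤ i ⁻¹ᵁ V j := (hpre j).ge
    let rl := i.resLE (V j) G hle
    have hrange : chartRing q r j ≤ (i.appLE (V j) G hle).hom.range := by
      refine Subring.closure_le.2 ?_
      rintro g (⟨b, rfl⟩ | ⟨l, rfl⟩)
      · refine ⟨(CohB1.ProjSpaceOver.toBase m Y).appLE ⊤ (V j) inf_le_right b, ?_⟩
        rw [← CommRingCat.comp_apply, Scheme.Hom.appLE_comp_appLE]
        have e : ∀ (f f' : X ⟶ Y) (_ : f = f') h h', f.appLE ⊤ G h b = f'.appLE ⊤ G h' b := by
          rintro f _ rfl h h'; rfl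
        exact e _ _ hi2 _ _
      · refine ⟨(Groth.Chow.PEmb.prZ m Y).appLE (chartOpen m j) (V j) inf_le_left (coordFun j l), ?_⟩
        rw [← CommRingCat.comp_apply, Scheme.Hom.appLE_comp_appLE]
        have e : ∀ (f f' : X ⟶ CohB1.ProjSpace m (ULift.{u} ℤ)) (_ : f = f') h h' b,
            f.appLE (chartOpen m j) G h b = f'.appLE (chartOpen m j) G h' b := by
          rintro f _ rfl h h' b; rfl
        exact e _ _ hi1 _ _ _
    have h1 : IsImmersion rl := by
      refine @isImmersion_of_range _ _ _ ‹_› hK rl k hk fun a => ?_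
      obtain ⟨F, hF⟩ := hrange (hkT a)
      refine ⟨(V j).topIso.inv.hom F, ?_⟩
      refine (ConcreteCategory.bijective_of_isIso G.topIso.hom).1 ?_
      refine Eq.trans ?_ hF
      refine (kf_resLE i hle (𝟙 (V j : Scheme.{u})) ((V j).topIso.inv.hom F)).trans ?_
      exact congrArg (i.appLE (V j) G hle).hom (congr(($((V j).topIso.inv_hom_id)).hom F))
    have e1 : i ∣_ V j = X.homOfLE (hpre j).le ≫ rl := by
      rw [← cancel_mono (V j).ι, morphismRestrict_ι, Category.assoc, Scheme.Hom.resLE_comp_ι,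
        Scheme.homOfLE_ι_assoc]
    rw [e1]
    infer_instance
  let W : (CohB1.ProjSpaceOver m Y).Opens := ⨆ x, V (idx x)
  have hW : i ⁻¹ᵁ W = ⊤ := eq_top_iff.2 fun x _ => by
    exact Opens.mem_iSup.2 ⟨x, (hpre (idx x)).ge (hidx x)⟩
  have h2 : IsImmersion (i ∣_ W) := by
    refine IsZariskiLocalAtTarget.of_iSup_eq_top (P := @IsImmersion) (fun x => W.ι ⁻¹ᵁ V (idx x))
      (eq_top_iff.2 fun w _ => ?_) fun j => ?_
    · obtain ⟨j, hj⟩ := Opens.mem_iSup.1 w.2
      exact Opens.mem_iSup.2 ⟨j, hj⟩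
    · rw [MorphismProperty.arrow_mk_iso_iff (P := @IsImmersion) (morphismRestrictRestrict i W _),
        MorphismProperty.arrow_mk_iso_iff (P := @IsImmersion) (morphismRestrictEq i
          (show W.ι ''ᵁ W.ι ⁻¹ᵁ V (idx j) = V (idx j) by
            rw [Scheme.Hom.image_preimage_eq_opensRange_inf, Scheme.Opens.opensRange_ι, inf_eq_right]
            exact le_iSup (fun x => V (idx x)) j))]
      exact hV j
  have h3 : IsImmersion ((i ⁻¹ᵁ W).ι ≫ i) := morphismRestrict_ι i W ▸ inferInstance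
  have : IsIso (i ⁻¹ᵁ W).ι := by
    rw [hW]
    exact (Scheme.topIso X).isIso_hom
  have h4 : IsImmersion (inv (i ⁻¹ᵁ W).ι ≫ (i ⁻¹ᵁ W).ι ≫ i) := inferInstance
  simpa using h4

end Groth.FibreVA
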