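import Groth.Agent.FlatmorThree.FibreClosedImmersion
import Mathlib.AlgebraicGeometry.Fiber
import Mathlib.AlgebraicGeometry.Morphisms.UniversallyClosed

/-!
# Closed immersions near a fibre

A universally closed morphism over a base that is a closed immersion over one point of the
base is a closed immersion over a neighbourhood of that point.
-/

universe u

open CategoryTheory CategoryTheory.Limits AlgebraicGeometry TopologicalSpace

namespace Groth.FibreVA

variable {X P S E T : Scheme.{u}}

/-- If the base change of `φ` along `c : P ×_S E ⟶ P` is a closed immersion, and every point of `P`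
over `y` factors through `E`, then `φ` is a closed immersion over a neighbourhood of `y`. -/
theorem exists_isClosedImmersion_over (φ : X ⟶ P) (π : P ⟶ S) [LocallyOfFiniteType φ]
    [UniversallyClosed φ] [UniversallyClosed π] {e : E ⟶ S} {c : T ⟶ P} {t : T ⟶ E}
    (hsq : IsPullback c t π e) (y : S)
    (hfac : ∀ z : P, π z = y →
      ∃ a : Spec (P.residueField z) ⟶ E, a ≫ e = P.fromSpecResidueField z ≫ π)
    (hci : IsClosedImmersion (pullback.snd φ c)) :
    ∃ U : S.Opens, y ∈ U ∧ IsClosedImmersion (φ ∣_ π ⁻¹ᵁ U) := by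
  have hz : ∀ z : P, π z = y → ∃ O : P.Opens, z ∈ O ∧ IsClosedImmersion (φ ∣_ O) := by
    intro z hz
    obtain ⟨a, ha⟩ := hfac z hz
    refine Groth.FlatmorThree.FibreCI.exists_of_universallyClosed φ z ?_ ⊤ trivial inferInstance
    exact Groth.FlatmorThree.FibreCI.snd_of_factor @IsClosedImmersion φ c
      (hsq.lift (P.fromSpecResidueField z) a ha.symm) (P.fromSpecResidueField z)
      (hsq.lift_fst _ _ _) hci
  choose O hzO hO using hz
  let W : P.Opens := ⨆ (z : {z : P // π z = y}), O z.1 z.2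
  have hW : IsClosedImmersion (φ ∣_ W) := by
    refine IsZariskiLocalAtTarget.of_iSup_eq_top (P := @IsClosedImmersion)
      (fun z : {z : P // π z = y} => W.ι ⁻¹ᵁ O z.1 z.2) (eq_top_iff.2 fun w _ => ?_) fun z => ?_
    · obtain ⟨z, hw⟩ := Opens.mem_iSup.1 w.2
      exact Opens.mem_iSup.2 ⟨z, hw⟩
    · rw [MorphismProperty.arrow_mk_iso_iff (P := @IsClosedImmersion)
          (morphismRestrictRestrict φ W _),
        MorphismProperty.arrow_mk_iso_iff (P := @IsClosedImmersion) (morphismRestrictEq φ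
          (show W.ι ''ᵁ W.ι ⁻¹ᵁ O z.1 z.2 = O z.1 z.2 by
            rw [Scheme.Hom.image_preimage_eq_opensRange_inf, Scheme.Opens.opensRange_ι,
              inf_eq_right]
            exact le_iSup (fun z : {z : P // π z = y} => O z.1 z.2) z))]
      exact hO z.1 z.2
  let U : S.Opens := ⟨(π '' (W : Set P)ᶜ)ᶜ, (π.isClosedMap _ W.2.isClosed_compl).isOpen_compl⟩
  refine ⟨U, ?_, ?_⟩
  · rintro ⟨z, hz, hzy⟩
    exact hz (Opens.mem_iSup.2 ⟨⟨z, hzy⟩, hzO z hzy⟩)
  have hle : π ⁻¹ᵁ U ≤ W := fun z hz => by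
    by_contra h
    exact hz ⟨z, h, rfl⟩
  rw [Groth.FlatmorThree.FibreCI.snd_ι_iff @IsClosedImmersion] at hW ⊢
  exact Groth.FlatmorThree.FibreCI.snd_of_factor @IsClosedImmersion φ W.ι (P.homOfLE hle) _
    (Scheme.homOfLE_ι _ _) hW

end Groth.FibreVA
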