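import Groth.Agent.FibreVA.Imm
import Groth.Agent.FibreVA.NearFibre
import Groth.Agent.RelVA.PnLocal
import Groth.Agent.CohBase.InvNearFibre
import Groth.Agent.Chow.AmpleComp
import Groth.Agent.Variety2.ProjBasics

/-!
# Relative very ampleness from the fibres
-/

universe u

open CategoryTheory CategoryTheory.Limits AlgebraicGeometry Opposite TopologicalSpace

set_option backward.isDefEq.respectTransparency.types false

noncomputable section

namespace Groth.FibreVA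

open Groth.PicAux Groth.PropsBasic.Ample Groth.RelVA Groth.RelTw

variable {X Y : Scheme.{u}}

/-- Generation by a section passes to smaller preimages. -/
theorem mem_gloc_restrict_mono {M : X.Modules} {V₀ V : X.Opens} (h : V ≤ V₀) (m₀ : Γ(M, V₀)) {x : X}
    (hx : x ∈ V)
    (h0 : x ∈ V₀.ι ''ᵁ gloc (L := M.restrict V₀.ι) (res M (Scheme.Opens.ι_image_le V₀ ⊤) m₀)) :
    x ∈ V.ι ''ᵁ gloc (L := M.restrict V.ι) (res M (Scheme.Opens.ι_image_le V ⊤) (res M h m₀)) := by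
  let O := V₀.ι ''ᵁ gloc (L := M.restrict V₀.ι) (res M (Scheme.Opens.ι_image_le V₀ ⊤) m₀)
  have hO₀ : O ≤ V₀ := Scheme.Opens.ι_image_le V₀ _
  have hO' : O ≤ V₀.ι ''ᵁ ⊤ := by rw [Scheme.Opens.ι_image_top]; exact hO₀
  have hV' : O ⊓ V ≤ V.ι ''ᵁ ⊤ := by rw [Scheme.Opens.ι_image_top]; exact inf_le_right
  have hgen := (Groth.Chow.le_image_gloc_restrict (M := M) (U := V₀)
    (res M (Scheme.Opens.ι_image_le V₀ ⊤) m₀) hO₀ hO').1 le_rfl
  refine (Groth.Chow.le_image_gloc_restrict (M := M) (U := V)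
    (res M (Scheme.Opens.ι_image_le V ⊤) (res M h m₀)) inf_le_right hV').2 ?_ ⟨h0, hx⟩
  have := hgen.res (inf_le_left : O ⊓ V ≤ O)
  erw [PicAux.res_res, PicAux.res_res] at this
  erw [PicAux.res_res, PicAux.res_res]
  exact this

set_option maxHeartbeats 800000 in
/-- Sections embedding the fibre over `y` embed a neighbourhood of it. -/
theorem exists_pn_nhd (f : X ⟶ Y) [IsProper f] (L : X.Modules) (V : Y.Opens) (y : Y) (hy : y ∈ V)
    {m : ℕ} (T : Fin (m + 1) → Γ(L.restrict (f ⁻¹ᵁ V).ι, ⊤)) (hcov : ⨆ j, gloc (T j) = ⊤)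
    (hL : PicF.IsInvertible L)
    (hdat : ∀ x, ∃ j,
      x ∈ gloc ((CohBase.fibreModIso f L y hy).hom.app ⊤
        (pullSec (CohBase.fibreToPreimage f y hy) (L.restrict (f ⁻¹ᵁ V).ι) (T j))) ∧
      Imm (gloc ((CohBase.fibreModIso f L y hy).hom.app ⊤
          (pullSec (CohBase.fibreToPreimage f y hy) (L.restrict (f ⁻¹ᵁ V).ι) (T j))))
        (ratioRing (f.fiberToSpecResidueField y) (fun l => (CohBase.fibreModIso f L y hy).hom.app ⊤
          (pullSec (CohBase.fibreToPreimage f y hy) (L.restrict (f ⁻¹ᵁ V).ι) (T l))) j)) :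
    ∃ U : Y.Opens, y ∈ U ∧ RelAmple.IsRelVeryAmplePn (f ∣_ U) (L.restrict (f ⁻¹ᵁ U).ι) := by
  let XV : Scheme.{u} := (f ⁻¹ᵁ V : X.Opens)
  let M : XV.Modules := L.restrict (f ⁻¹ᵁ V).ι
  have hM : PicF.IsInvertible M := Groth.Ega2Proj.isInvertible_restrict _ hL
  let q₀ : XV ⟶ Spec (CommRingCat.of (ULift.{u} ℤ)) := specULiftZIsTerminal.from XV
  have hU : ⨆ j, Groth.Chow.ToPn.U M T j = ⊤ := hcov
  obtain ⟨r, hr⟩ := Groth.Chow.ToPn.exists_r q₀ M T hU
  obtain ⟨τ, -⟩ := Groth.Chow.ToPn.exists_tau hr hU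
  let q : XV ⟶ (V : Scheme.{u}) := f ∣_ V
  let π := CohB1.ProjSpaceOver.toBase m (V : Scheme.{u})
  let φ : XV ⟶ CohB1.ProjSpaceOver m (V : Scheme.{u}) :=
    pullback.lift r q (specULiftZIsTerminal.hom_ext _ _)
  have hφ1 : φ ≫ Groth.Chow.PEmb.prZ m (V : Scheme.{u}) = r := pullback.lift_fst _ _ _
  have hφ2 : φ ≫ π = q := pullback.lift_snd _ _ _
  have : IsProper π := Groth.Variety2.isProper_projSpaceOver_toBase m _
  have hq : IsProper q := IsZariskiLocalAtTarget.restrict ‹IsProper f› V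
  have : IsProper (φ ≫ π) := hφ2.symm ▸ hq
  have : IsProper φ := IsProper.of_comp φ π
  -- the fibre square
  let κ := Spec (Y.residueField y)
  let e : κ ⟶ (V : Scheme.{u}) := IsOpenImmersion.lift V.ι (Y.fromSpecResidueField y) (by
    rw [Scheme.Opens.range_ι, Scheme.range_fromSpecResidueField]
    exact Set.singleton_subset_iff.2 hy)
  have he : e ≫ V.ι = Y.fromSpecResidueField y := IsOpenImmersion.lift_fac _ _ _
  let g := CohBase.fibreToPreimage f y hy
  let qy := f.fiberToSpecResidueField y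
  have hout : IsPullback g qy q e := by
    have h : IsPullback (g ≫ (f ⁻¹ᵁ V).ι) qy f (e ≫ V.ι) := by
      rw [CohBase.fibreToPreimage_ι, he]
      exact IsPullback.of_hasPullback f (Y.fromSpecResidueField y)
    refine h.of_right ?_ (isPullback_morphismRestrict f V).flip
    rw [← cancel_mono V.ι, Category.assoc, Category.assoc, morphismRestrict_ι, ← Category.assoc]
    exact h.w
  let c : CohB1.ProjSpaceOver m κ ⟶ CohB1.ProjSpaceOver m (V : Scheme.{u}) :=
    pullback.lift (Groth.Chow.PEmb.prZ m κ) (CohB1.ProjSpaceOver.toBase m κ ≫ e)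
      (specULiftZIsTerminal.hom_ext _ _)
  have hc1 : c ≫ Groth.Chow.PEmb.prZ m (V : Scheme.{u}) = Groth.Chow.PEmb.prZ m κ :=
    pullback.lift_fst _ _ _
  have hc2 : c ≫ π = CohB1.ProjSpaceOver.toBase m κ ≫ e := pullback.lift_snd _ _ _
  have hbot : IsPullback c (CohB1.ProjSpaceOver.toBase m κ) π e := by
    have hbig : IsPullback (c ≫ Groth.Chow.PEmb.prZ m (V : Scheme.{u}))
        (CohB1.ProjSpaceOver.toBase m κ) (CohB1.ProjSpace.toSpec m (ULift.{u} ℤ))
        (e ≫ specULiftZIsTerminal.from (V : Scheme.{u})) := by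
      rw [hc1, show e ≫ specULiftZIsTerminal.from (V : Scheme.{u}) = specULiftZIsTerminal.from κ from
        specULiftZIsTerminal.hom_ext _ _]
      exact IsPullback.of_hasPullback _ _
    exact IsPullback.of_right hbig hc2 (IsPullback.of_hasPullback _ _)
  let iy : f.fiber y ⟶ CohB1.ProjSpaceOver m κ :=
    pullback.lift (g ≫ r) qy (specULiftZIsTerminal.hom_ext _ _)
  have hi1 : iy ≫ Groth.Chow.PEmb.prZ m κ = g ≫ r := pullback.lift_fst _ _ _
  have hi2 : iy ≫ CohB1.ProjSpaceOver.toBase m κ = qy := pullback.lift_snd _ _ _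
  have himm : IsImmersion iy := by
    refine isImmersion_lift_of_chartRing qy (g ≫ r) iy hi1 hi2 fun x => ?_
    obtain ⟨j, hxj, hI⟩ := hdat x
    let θ := CohBase.fibreModIso f L y hy
    let t : Fin (m + 1) → Γ(CohIII.fiberMod f L y, ⊤) := fun l => θ.hom.app ⊤ (pullSec g M (T l))
    have hpre : (g ≫ r) ⁻¹ᵁ chartOpen m j = gloc (t j) := by
      refine (congrArg (g ⁻¹ᵁ ·) (Groth.Chow.ToPn.preimage_D hr hU j)).trans ?_
      exact ((gloc_map θ.hom _).trans (gloc_pullSec g hM (T j))).symm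
    refine ⟨j, hpre.ge hxj, hI.restrict hpre.le fun a ha => ?_⟩
    refine (Subring.closure_le (t := (chartRing qy (g ≫ r) j).comap (resX _ hpre.le))).2 ?_ ha
    rintro a (⟨b, rfl⟩ | ⟨l, hl⟩)
    · exact Subring.subset_closure (Or.inl ⟨b, (resX_rAp qy le_top hpre.le b).symm⟩)
    refine Subring.subset_closure (Or.inr ⟨l, ?_⟩)
    have hgen := gen_gloc (t j) hpre.le
    refine hgen.smul_inj le_rfl ?_
    rw [PicAux.res_self]
    have h1 := congrArg (res _ hpre.le) hl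
    rw [PicAux.res_res, PicAux.res_smul, PicAux.res_res] at h1
    refine Eq.trans ?_ h1
    symm
    let G : XV.Opens := r ⁻¹ᵁ chartOpen m j
    have hG : G ≤ Groth.Chow.ToPn.U M T j := (Groth.Chow.ToPn.preimage_D hr hU j).le
    have hG' : Groth.Chow.ToPn.U M T j ≤ G := (Groth.Chow.ToPn.preimage_D hr hU j).ge
    have h2 : r.appLE (chartOpen m j) G le_rfl (coordFun j l) =
        resX XV hG (Groth.Chow.ToPn.c M T j l) := by
      have := Groth.Chow.ToPn.appLE_awayToSection hr j hG'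
        (HomogeneousLocalization.Away.mk (CohB1.polyGrading m (ULift.{u} ℤ))
          (Groth.Chow.ToPn.X_mem j) 1 (MvPolynomial.X l)
          (by rw [one_smul]; exact Groth.Chow.ToPn.X_mem l))
      rw [Groth.Chow.ToPn.α, Groth.Chow.ToPn.chart_mk, MvPolynomial.eval₂_X] at this
      rw [← this]
      exact congr($((Scheme.Hom.appLE_map r hG' (homOfLE hG).op)) (coordFun j l)).symm
    have h3 : res M (le_top : G ≤ ⊤) (T l) =
        r.appLE (chartOpen m j) G le_rfl (coordFun j l) • res M (le_top : G ≤ ⊤) (T j) := by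
      rw [h2]
      have := congrArg (res M hG) (Groth.Chow.ToPn.c_spec M T j l)
      rwa [PicAux.res_res, PicAux.res_smul, PicAux.res_res] at this
    have h4 := congrArg (θ.hom.app _) (congrArg (pullSec g M) h3)
    rw [← res_pullSec, pullSec_smul, Scheme.Modules.Hom.app_smul, ← res_pullSec,
      PicAux.app_res, PicAux.app_res] at h4
    refine h4.trans ?_
    congr 1
    rw [← CommRingCat.comp_apply, Scheme.Hom.app_eq_appLE, Scheme.Hom.appLE_comp_appLE]
    rfl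
  have hcomm : g ≫ φ = iy ≫ c := by
    refine pullback.hom_ext ?_ ?_
    · change (g ≫ φ) ≫ Groth.Chow.PEmb.prZ m _ = (iy ≫ c) ≫ Groth.Chow.PEmb.prZ m _
      rw [Category.assoc, Category.assoc, hφ1, hc1, hi1]
    · change (g ≫ φ) ≫ π = (iy ≫ c) ≫ π
      rw [Category.assoc, Category.assoc, hφ2, hc2, ← Category.assoc iy, hi2, hout.w]
  have hsq : IsPullback g iy φ c := IsPullback.of_bot (by rwa [hi2, hφ2]) hcomm hbot
  have hci : IsClosedImmersion iy := by
    have : IsProper iy := MorphismProperty.of_isPullback hsq ‹IsProper φ›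
    exact IsClosedImmersion.of_isPreimmersion _ iy.isClosedMap.isClosed_range
  have hci' : IsClosedImmersion (pullback.snd φ c) := by
    rwa [← hsq.isoPullback_inv_snd, MorphismProperty.cancel_left_of_respectsIso @IsClosedImmersion]
  obtain ⟨U, hyU, hUci⟩ := exists_isClosedImmersion_over φ π hbot ⟨y, hy⟩ (fun z hz => by
    let w : Spec ((CohB1.ProjSpaceOver m (V : Scheme.{u})).residueField z) ⟶ Y :=
      (CohB1.ProjSpaceOver m (V : Scheme.{u})).fromSpecResidueField z ≫ π ≫ V.ι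
    have hw : w (IsLocalRing.closedPoint _) = y := by
      simp only [w, Scheme.Hom.comp_apply, Scheme.fromSpecResidueField_apply, hz]
      rfl
    obtain ⟨a, ha⟩ : ∃ a : Spec ((CohB1.ProjSpaceOver m (V : Scheme.{u})).residueField z) ⟶ κ,
        a ≫ Y.fromSpecResidueField y = w := by
      have key := Scheme.descResidueField_stalkClosedPointTo_fromSpecResidueField
        ((CohB1.ProjSpaceOver m (V : Scheme.{u})).residueField z) Y w
      subst hw
      exact ⟨_, key⟩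
    refine ⟨a, ?_⟩
    rw [← cancel_mono V.ι, Category.assoc, he, ha, Category.assoc]) hci'
  let U' : Y.Opens := V.ι ''ᵁ U
  refine ⟨U', ⟨⟨y, hy⟩, hyU, rfl⟩, ?_⟩
  have hle : f ⁻¹ᵁ U' ≤ f ⁻¹ᵁ V := f.preimage_mono (Scheme.Opens.ι_image_le V U)
  let ρ : ((f ⁻¹ᵁ U' : X.Opens) : Scheme.{u}) ⟶ XV := X.homOfLE hle
  let i' : ((f ⁻¹ᵁ U' : X.Opens) : Scheme.{u}) ⟶ CohB1.ProjSpaceOver m (U' : Scheme.{u}) :=
    pullback.lift (ρ ≫ r) (f ∣_ U') (specULiftZIsTerminal.hom_ext _ _)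
  have hi'1 : i' ≫ Groth.Chow.PEmb.prZ m (U' : Scheme.{u}) = ρ ≫ r := pullback.lift_fst _ _ _
  refine ⟨m, i', ?_, pullback.lift_snd _ _ _, ⟨?_⟩⟩
  · let μ : CohB1.ProjSpaceOver m (U' : Scheme.{u}) ⟶ CohB1.ProjSpaceOver m (V : Scheme.{u}) :=
      pullback.lift (Groth.Chow.PEmb.prZ m _)
        (CohB1.ProjSpaceOver.toBase m _ ≫ Y.homOfLE (Scheme.Opens.ι_image_le V U))
        (specULiftZIsTerminal.hom_ext _ _)
    have eq : i' ≫ μ = ρ ≫ φ := by
      refine pullback.hom_ext ?_ ?_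
      · change (i' ≫ μ) ≫ Groth.Chow.PEmb.prZ m _ = (ρ ≫ φ) ≫ Groth.Chow.PEmb.prZ m _
        rw [Category.assoc, Category.assoc, hφ1, ← hi'1]
        exact congrArg (i' ≫ ·) (pullback.lift_fst _ _ _)
      · change (i' ≫ μ) ≫ π = (ρ ≫ φ) ≫ π
        rw [Category.assoc, Category.assoc, hφ2]
        refine (congrArg (i' ≫ ·) (pullback.lift_snd _ _ _)).trans ?_
        refine ((Category.assoc _ _ _).symm.trans
          (congrArg (· ≫ _) (pullback.lift_snd _ _ _))).trans ?_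
        rw [← cancel_mono V.ι, Category.assoc, Category.assoc, Scheme.homOfLE_ι, morphismRestrict_ι,
          morphismRestrict_ι, Scheme.homOfLE_ι_assoc]
    have h3 : IsImmersion ((φ ⁻¹ᵁ π ⁻¹ᵁ U).ι ≫ φ) := morphismRestrict_ι φ _ ▸ inferInstance
    have hsub : Set.range ρ ⊆ Set.range (φ ⁻¹ᵁ π ⁻¹ᵁ U).ι := by
      rw [Scheme.Opens.range_ι]
      rintro _ ⟨x, rfl⟩
      change (φ ≫ π) (ρ x) ∈ U
      rw [hφ2]
      obtain ⟨v, hv, hvx⟩ := x.2
      have : V.ι (q (ρ x)) = V.ι v := by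
        rw [← Scheme.Hom.comp_apply, ← Scheme.Hom.comp_apply, morphismRestrict_ι,
          Scheme.homOfLE_ι_assoc]
        exact hvx.symm
      rwa [V.ι.isOpenEmbedding.injective this]
    have : IsImmersion (i' ≫ μ) := by
      rw [eq, ← IsOpenImmersion.lift_fac (φ ⁻¹ᵁ π ⁻¹ᵁ U).ι ρ hsub, Category.assoc]
      infer_instance
    exact IsImmersion.of_comp i' μ
  · exact (Scheme.Modules.restrictFunctorIsoPullback (f ⁻¹ᵁ U').ι).app L ≪≫
      (Scheme.Modules.pullbackCongr (X.homOfLE_ι hle).symm).app L ≪≫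
      ((Scheme.Modules.pullbackComp ρ (f ⁻¹ᵁ V).ι).app L).symm ≪≫
      (Scheme.Modules.pullback ρ).mapIso
        (((Scheme.Modules.restrictFunctorIsoPullback (f ⁻¹ᵁ V).ι).app L).symm ≪≫ τ.symm) ≪≫
      (Scheme.Modules.pullbackComp ρ r).app _ ≪≫
      (Scheme.Modules.pullbackCongr hi'1.symm).app _ ≪≫
      ((Scheme.Modules.pullbackComp i' (Groth.Chow.PEmb.prZ m (U' : Scheme.{u}))).app _).symm

set_option maxHeartbeats 1600000 in
/-- A very ample fibre whose sections extend gives very ampleness over a neighbourhood. -/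
theorem exists_nhd_pn_of_fibre' (f : X ⟶ Y) [IsProper f]
    (L : X.Modules) (hL : PicF.IsInvertible L) (y : Y)
    (hva : RelAmple.IsRelVeryAmplePn (f.fiberToSpecResidueField y) (CohIII.fiberMod f L y))
    (hlift : ∀ t : Γ(CohIII.fiberMod f L y, ⊤),
      ∃ (U : Y.Opens) (_ : y ∈ U) (e : (⊤ : (f.fiber y).Opens) ≤ f.fiberι y ⁻¹ᵁ f ⁻¹ᵁ U)
        (s : Γ(L, f ⁻¹ᵁ U)), QCohMod.res _ e (pullSec (f.fiberι y) L s) = t) :
    ∃ U : Y.Opens, y ∈ U ∧ RelAmple.IsRelVeryAmplePn (f ∣_ U) (L.restrict (f ⁻¹ᵁ U).ι) := by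
  obtain ⟨m, t, hdat⟩ := hasPnData_of_pn hva
  choose U hyU eU s hs using fun j => hlift (t j)
  let V₀ : Y.Opens := Finset.univ.inf U
  have hyV₀ : y ∈ V₀ :=
    Finset.inf_induction (p := fun W : Y.Opens => y ∈ W) trivial (fun _ ha _ hb => ⟨ha, hb⟩)
      fun j _ => hyU j
  have hV₀U : ∀ j, V₀ ≤ U j := fun j => Finset.inf_le (Finset.mem_univ j)
  let s₀ : Fin (m + 1) → Γ(L, f ⁻¹ᵁ V₀) := fun j => res L (f.preimage_mono (hV₀U j)) (s j)
  -- restriction of the lifts to a smaller open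
  have hfib : ∀ (V : Y.Opens) (hV : V ≤ V₀) (hy : y ∈ V) (j : Fin (m + 1)),
      (CohBase.fibreModIso f L y hy).hom.app ⊤ (pullSec (CohBase.fibreToPreimage f y hy) (L.restrict (f ⁻¹ᵁ V).ι)
        (U := ⊤) (res L (Scheme.Opens.ι_image_le (f ⁻¹ᵁ V) ⊤) (res L (f.preimage_mono hV) (s₀ j)))) = t j := by
    intro V hV hy j
    have e₂ : (⊤ : (f.fiber y).Opens) ≤ f.fiberι y ⁻¹ᵁ f ⁻¹ᵁ V := fun x _ => by
      change f (f.fiberι y x) ∈ V
      rw [← Scheme.Hom.comp_apply, f.fiber_fac, Scheme.Hom.comp_apply,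
        Scheme.fromSpecResidueField_apply]
      exact hy
    have h := CohBase.fibreModIso_pullSec f L y hy (res L (f.preimage_mono hV) (s₀ j)) le_top e₂
    rw [show pullSec (f.fiberι y) L (res L (f.preimage_mono hV) (s₀ j)) =
      res _ ((f.fiberι y).preimage_mono (f.preimage_mono (hV.trans (hV₀U j))))
        (pullSec (f.fiberι y) L (s j)) by
      simp only [s₀, PicAux.res_res]
      exact (res_pullSec _ L _ _).symm] at h
    refine Eq.trans ?_ (h.trans ((PicAux.res_res _ _ _).trans (hs j)))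
    exact congrArg _ (PicAux.res_self _ _).symm
  -- shrink so that the lifts generate
  let T₀ : Fin (m + 1) → Γ(L.restrict (f ⁻¹ᵁ V₀).ι, ⊤) := fun j =>
    res L (Scheme.Opens.ι_image_le (f ⁻¹ᵁ V₀) ⊤) (s₀ j)
  let O : X.Opens := ⨆ j, (f ⁻¹ᵁ V₀).ι ''ᵁ gloc (T₀ j)
  let W : Y.Opens := ⟨(f '' (O : Set X)ᶜ)ᶜ, (f.isClosedMap _ O.2.isClosed_compl).isOpen_compl⟩
  have hyW : y ∈ W := by
    rintro ⟨x, hx, hxy⟩
    obtain ⟨w, rfl⟩ : x ∈ Set.range (f.fiberι y) := by
      rw [Scheme.Hom.range_fiberι]; exact hxy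
    obtain ⟨j, hj, -⟩ := hdat w
    have h0 := hfib V₀ le_rfl hyV₀ j
    rw [show res L (f.preimage_mono (le_refl V₀)) (s₀ j) = s₀ j from PicAux.res_self _ _] at h0
    rw [← h0, gloc_map (CohBase.fibreModIso f L y hyV₀).hom,
      gloc_pullSec _ (Groth.Ega2Proj.isInvertible_restrict _ hL)] at hj
    refine hx (Opens.mem_iSup.2 ⟨j, CohBase.fibreToPreimage f y hyV₀ w, hj, ?_⟩)
    exact (Scheme.Hom.comp_apply _ _ _).symm.trans
      (congrArg (fun g : f.fiber y ⟶ X => g w) (CohBase.fibreToPreimage_ι f y hyV₀))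
  let V : Y.Opens := V₀ ⊓ W
  have hV : V ≤ V₀ := inf_le_left
  have hy : y ∈ V := ⟨hyV₀, hyW⟩
  let T : Fin (m + 1) → Γ(L.restrict (f ⁻¹ᵁ V).ι, ⊤) := fun j =>
    res L (Scheme.Opens.ι_image_le (f ⁻¹ᵁ V) ⊤) (res L (f.preimage_mono hV) (s₀ j))
  have hcov : ⨆ j, gloc (T j) = ⊤ := eq_top_iff.2 fun x _ => by
    have hxO : x.1 ∈ O := by
      by_contra h
      exact x.2.2 ⟨x.1, h, rfl⟩
    obtain ⟨j, hj⟩ := Opens.mem_iSup.1 hxO
    obtain ⟨z, hz, hzx⟩ := mem_gloc_restrict_mono (f.preimage_mono hV) (s₀ j) x.2 hj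
    exact Opens.mem_iSup.2 ⟨j, (f ⁻¹ᵁ V).ι.isOpenEmbedding.injective hzx ▸ hz⟩
  refine exists_pn_nhd f L V y hy T hcov hL fun x => ?_
  obtain ⟨j, hj⟩ := hdat x
  refine ⟨j, ?_⟩
  let t₁ : Fin (m + 1) → Γ(CohIII.fiberMod f L y, ⊤) := fun l => (CohBase.fibreModIso f L y hy).hom.app ⊤
    (pullSec (CohBase.fibreToPreimage f y hy) (L.restrict (f ⁻¹ᵁ V).ι) (T l))
  have e : t₁ = t := funext fun l => hfib V hV hy l
  have key : ∀ t₁ t₂ : Fin (m + 1) → Γ(CohIII.fiberMod f L y, ⊤), t₁ = t₂ →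
      (x ∈ gloc (t₂ j) ∧ Imm (gloc (t₂ j)) (ratioRing (f.fiberToSpecResidueField y) t₂ j)) →
      x ∈ gloc (t₁ j) ∧ Imm (gloc (t₁ j)) (ratioRing (f.fiberToSpecResidueField y) t₁ j) := by
    intro t₁ t₂ h
    cases h
    exact id
  exact key t₁ t e hj

/-- A very ample fibre without first cohomology gives very ampleness over a neighbourhood. -/
theorem exists_nhd_pn_of_fibre (f : X ⟶ Y) [IsLocallyNoetherian Y] [IsProper f] [Flat f]
    (L : X.Modules) (hL : PicF.IsInvertible L) (y : Y)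
    (hva : RelAmple.IsRelVeryAmplePn (f.fiberToSpecResidueField y) (CohIII.fiberMod f L y))
    (hH1 : Subsingleton (Coh.HH (f.fiber y) (CohIII.fiberMod f L y) 1)) :
    ∃ U : Y.Opens, y ∈ U ∧ RelAmple.IsRelVeryAmplePn (f ∣_ U) (L.restrict (f ⁻¹ᵁ U).ι) :=
  exists_nhd_pn_of_fibre' f L hL y hva fun t => CohBase.exists_section_lift f L
    (Groth.VarietyBC.CurveGG.isCoh_of_isInvertible hL) (CohBase.isFlatOver_of_isInvertible f hL) y hH1 t

/-- Very ample fibres without first cohomology give very ampleness. -/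
theorem isRelVeryAmple_of_fibres (f : X ⟶ Y) [IsLocallyNoetherian Y] [IsProper f] [Flat f]
    (L : X.Modules) (hL : PicF.IsInvertible L)
    (hva : ∀ y : Y, RelAmple.IsRelVeryAmplePn (f.fiberToSpecResidueField y) (CohIII.fiberMod f L y))
    (hH1 : ∀ y : Y, Subsingleton (Coh.HH (f.fiber y) (CohIII.fiberMod f L y) 1)) :
    RelProj.IsRelVeryAmple f L := by
  choose U hyU hU using fun y => exists_nhd_pn_of_fibre f L hL y (hva y) (hH1 y)
  exact isRelVeryAmple_of_cover_pn f hL U (eq_top_iff.2 fun y _ => Opens.mem_iSup.2 ⟨y, hyU y⟩) hU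

end Groth.FibreVA
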