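import Groth.Agent.CohC3.BC.Global
import Groth.Agent.Limits.BC0.Vanish
import Groth.Agent.CohBase.RpushAffineLin
import Groth.Agent.FlatStrata.Rank

/-!
# Local freeness and rank of higher direct images in terms of models
-/

universe u

open CategoryTheory Limits AlgebraicGeometry TopologicalSpace Opposite
open scoped TensorProduct
open Groth.CohBase Groth.CohC3.BC

set_option maxHeartbeats 800000
set_option backward.isDefEq.respectTransparency false
set_option backward.defeqAttrib.useBackward true
set_option backward.isDefEq.respectTransparency.types false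

namespace Groth.FibreVA.RpushFree

/-- The rank of a kernel with projective cokernel, computed at a field-valued point. -/
theorem finrank_tensor_ker {A : Type u} [CommRing A] {Q P Q' : Type u} [AddCommGroup Q] [Module A Q]
    [AddCommGroup P] [Module A P] [AddCommGroup Q'] [Module A Q'] [Module.Free A P]
    {d : Q →ₗ[A] P} {π : P →ₗ[A] Q'} (hex : Function.Exact d π) (hπ : Function.Surjective π)
    (C : Type u) [CommRing C] [Algebra A C] [Module.Flat C (C ⊗[A] Q')] (K : Type u) [Field K]
    [Algebra A K] [Algebra C K] [IsScalarTower A C K] :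
    Module.finrank K (K ⊗[C] LinearMap.ker (d.baseChange C)) =
      Module.finrank K (LinearMap.ker (d.baseChange K)) :=
  ((LinearEquiv.ofBijective _ (kerBC_bijective_of_flat (exact_baseChange hex hπ C)
    (surjective_baseChange hπ C) K)).trans (kerCancelEquiv d)).finrank_eq

variable {X S : Scheme.{u}} {f : X ⟶ S} [IsProper f] [LocallyOfFinitePresentation f]
  [HasInjectiveResolutions X.Modules] {F : X.Modules} [F.IsQuasicoherent]

/-- A higher direct image is locally free of the rank of the fibre cohomology where the two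
cokernels of a model are free. -/
theorem isFinLocFreeOfRank_Rpush (p r : ℕ) (hr : ∀ s : S, CohIII.fiberRank f F p s = r)
    (hU : ∀ y : S, ∃ (V : S.Opens) (hV : IsAffineOpen V)
      (M : Model (preimageToSpec f (V := V)) (F.restrict (f ⁻¹ᵁ V).ι)) (hy : y ∈ V),
      hV.primeIdealOf ⟨y, hy⟩ ∈ Module.freeLocus Γ(S, V) (M.Q p) ∧
        hV.primeIdealOf ⟨y, hy⟩ ∈ Module.freeLocus Γ(S, V) (M.Q (p + 1))) :
    FlatMod.IsFinLocFreeOfRank r ((Coh.Rpush f p).obj F) := by
  let R := (Coh.Rpush f p).obj F
  have : R.IsQuasicoherent := Groth.CohBase.isQCoh_Rpush f p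
  refine Groth.FlatStrata.isFinLocFreeOfRank_of_sections R r fun y => ?_
  obtain ⟨V, hV, M, hy, hx⟩ := hU y
  have := M.finitePresentation p
  have := M.finitePresentation (p + 1)
  have := M.free p
  have := M.finite p
  obtain ⟨a, hya, haO, -⟩ := exists_basicOpen hV hy
    (Module.isOpen_freeLocus.inter Module.isOpen_freeLocus) hx
  letI : Algebra Γ(S, V) Γ(S, S.basicOpen a) :=
    (S.presheaf.map (homOfLE (S.basicOpen_le a)).op).hom.toAlgebra
  let C := Γ(S, S.basicOpen a)
  have : IsLocalization.Away a C := hV.isLocalization_basicOpen a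
  have : Module.Flat Γ(S, V) C := IsLocalization.flat C (Submonoid.powers a)
  have : Module.Projective C (C ⊗[Γ(S, V)] M.Q p) :=
    (subset_freeLocus_iff a C).1 fun z hz => (haO hz).1
  have : Module.Projective C (C ⊗[Γ(S, V)] M.Q (p + 1)) :=
    (subset_freeLocus_iff a C).1 fun z hz => (haO hz).2
  obtain ⟨h1, h2⟩ := ker_finite_projective (f := (M.d p).baseChange C)
    (exact_baseChange (M.exact p) (M.surjective p) C) (surjective_baseChange (M.surjective p) C)
  letI : ((f ⁻¹ᵁ V : X.Opens) : Scheme.{u}).Over (Spec (CommRingCat.of Γ(S, V))) :=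
    ⟨preimageToSpec f⟩
  obtain ⟨l⟩ := Groth.CohBase.exists_Rpush_linEquiv f (M := F) p hV
  let e' : LinearMap.ker (M.d p) ≃ₗ[Γ(S, V)] Γ(R, V) := (M.e₀ p).trans l.symm
  letI := Groth.PropsBasic.FPSections.resModule R a
  have : IsScalarTower Γ(S, V) C Γ(R, S.basicOpen a) :=
    IsScalarTower.of_algebraMap_smul fun _ _ => rfl
  have := Groth.PropsBasic.FPSections.isLocalizedModule_resₗ R hV a
  let e₁ := (IsLocalizedModule.isBaseChange (Submonoid.powers a) C
    (Groth.PropsBasic.FPSections.resₗ R a)).equiv
  let e : LinearMap.ker ((M.d p).baseChange C) ≃ₗ[C] Γ(R, S.basicOpen a) :=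
    (LinearEquiv.ofBijective _ (kerBC_bijective_of_flat_algebra (f := M.d p) C)).symm.trans
      ((TensorProduct.congr (LinearEquiv.refl Γ(S, V) C) e').toAddEquiv.toLinearEquiv (fun c z => by
          induction z using TensorProduct.induction_on with
          | zero => simp
          | tmul u x => rfl
          | add u b ha hb => simp only [smul_add, map_add]; exact congrArg₂ (· + ·) ha hb) ≪≫ₗ e₁)
  have : Module.Finite C Γ(R, S.basicOpen a) := Module.Finite.equiv e
  have : Module.Projective C Γ(R, S.basicOpen a) := Module.Projective.of_equiv e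
  have : Module.FinitePresentation C Γ(R, S.basicOpen a) :=
    Module.finitePresentation_of_projective _ _
  have hW := hV.basicOpen a
  refine ⟨S.basicOpen a, hW, hya, inferInstance, inferInstance, fun q => ?_⟩
  let z := hW.fromSpec q
  have hzW : z ∈ S.basicOpen a := hW.range_fromSpec.le ⟨q, rfl⟩
  have hzq : hW.primeIdealOf ⟨z, hzW⟩ = q := hW.fromSpec.isEmbedding.injective
    (hW.fromSpec_primeIdealOf ⟨z, hzW⟩)
  have hzV : z ∈ V := S.basicOpen_le a hzW
  letI : Algebra Γ(S, V) (S.residueField z) := (S.evaluation V z hzV).hom.toAlgebra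
  letI : Algebra C (S.residueField z) := (S.evaluation (S.basicOpen a) z hzW).hom.toAlgebra
  have : IsScalarTower Γ(S, V) C (S.residueField z) := IsScalarTower.of_algebraMap_eq fun b => by
    show S.evaluation V z hzV b = S.evaluation (S.basicOpen a) z hzW (S.presheaf.map _ b)
    rw [← Scheme.germ_residue, ← Scheme.germ_residue, CommRingCat.comp_apply, CommRingCat.comp_apply]
    exact congrArg _ (TopCat.Presheaf.germ_res_apply S.presheaf _ _ _ b).symm
  have hK : RingHom.ker (algebraMap C (S.residueField z)) = q.asIdeal :=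
    (Groth.CohBase.ker_evaluation hW z hzW).trans (by rw [hzq])
  have hk := Groth.CohBase.CxRank.kdim_eq_fdim (S.residueField z) Γ(R, S.basicOpen a) q hK
  have hfl := fdim_eq_rankAtStalk_of_mem (x := q)
    (show q ∈ Module.freeLocus C Γ(R, S.basicOpen a) by rw [Module.freeLocus_eq_univ]; trivial)
  have : Module.Flat C (C ⊗[Γ(S, V)] M.Q (p + 1)) :=
    @Module.Flat.of_projective C _ _ _ _ ‹Module.Projective C (C ⊗[Γ(S, V)] M.Q (p + 1))›
  refine hfl.symm.trans (hk.symm.trans ?_)
  unfold Groth.CohBase.CxRank.kdim
  obtain ⟨eF⟩ := exists_fibre_equiv hV M hzV p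
  rw [← (TensorProduct.AlgebraTensorModule.congr (LinearEquiv.refl (S.residueField z) (S.residueField z)) e).finrank_eq,
    finrank_tensor_ker (M.exact p) (M.surjective p) C (S.residueField z), ← eF.finrank_eq]
  exact hr z

end Groth.FibreVA.RpushFree
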