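import Groth.Agent.GrpschAbsch.H0General
import Groth.Agent.AlgGrp1.SmoothReduced
import Groth.Agent.CohBase.AffineBC
import Groth.Agent.PicAux.Pullback
import Groth.Agent.Limits.BC0.Exchange

/-!
# The degree zero base change map of the structure module is surjective
-/

universe u

open CategoryTheory CategoryTheory.Limits AlgebraicGeometry TopologicalSpace Opposite

set_option backward.isDefEq.respectTransparency.types false

noncomputable section

namespace Groth.FibreVA.StructureEpi

open Groth.PicAux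

variable {X X' S S' : Scheme.{u}} {f : X ⟶ S} {g : S' ⟶ S} {f' : X' ⟶ S'} {g' : X' ⟶ X}

/-- If all functions on `X'` over opens of `S'` come from `S'`, base change of `f_* O` is onto. -/
theorem epi_bc0_structure (w : g' ≫ f = f' ≫ g)
    (hb : ∀ W : S'.Opens, Function.Surjective (f'.app W)) :
    Epi (CohBC.bc0 f g f' g' w (Coh.structureModule X)) := by
  refine Groth.QCohMod.epi_of_affine_surjective _ fun W _ => ?_
  change Function.Surjective ((Groth.CohBase.AffineBC.bcHom w (Coh.structureModule X)).app W)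
  intro t
  have e : W ≤ g ⁻¹ᵁ (⊤ : S.Opens) := le_top
  have e₁ : f' ⁻¹ᵁ W ≤ g' ⁻¹ᵁ (f ⁻¹ᵁ (⊤ : S.Opens)) := le_top
  have hgen : Gen ((Scheme.Modules.pullback g').obj (Coh.structureModule X)) (g' ⁻¹ᵁ ⊤)
      (pullSec g' (Coh.structureModule X) (oneSec X ⊤)) := Gen.pull_top g' (gen_oneSec ⊤)
  obtain ⟨r, hr⟩ := (hgen (f' ⁻¹ᵁ W) e₁).2 t
  obtain ⟨c, hc⟩ := hb W r
  let P : Γ((Scheme.Modules.pullback g).obj
      ((Scheme.Modules.pushforward f).obj (Coh.structureModule X)), W) :=
    Groth.QCohMod.res _ e (pullSec g ((Scheme.Modules.pushforward f).obj (Coh.structureModule X))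
      (U := (⊤ : S.Opens)) (oneSec X (f ⁻¹ᵁ ⊤)))
  refine ⟨c • P, ?_⟩
  refine ((Groth.CohBase.AffineBC.bcHom w (Coh.structureModule X)).app_smul c P).trans ?_
  refine (congrArg (c • ·) (Groth.CohBase.AffineBC.bcHom_pullSec w (Coh.structureModule X) e e₁
    (oneSec X (f ⁻¹ᵁ ⊤)))).trans ?_
  refine Eq.trans (b := (show Γ(X', f' ⁻¹ᵁ W) from f'.app W c) •
    (show Γ((Scheme.Modules.pullback g').obj (Coh.structureModule X), f' ⁻¹ᵁ W) from
      Groth.QCohMod.res _ e₁ (pullSec g' (Coh.structureModule X) (oneSec X ⊤)))) rfl ?_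
  rw [hc]
  exact hr

end Groth.FibreVA.StructureEpi
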